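import Cfsg.Agent.H36.Spr7.Three
import Cfsg.Agent.H856.Tz6

/-!
# The row `Ω₇(q)`, `q` odd, of S3938 (3/2-generation), modulo the classification (helper36)
-/

set_option autoImplicit false

namespace Cfsg.Agent.H36.Spr7

open Cfsg

/-- **S3938-OODD7**: `Ω₇(q)`, `q` odd, is 3/2-generated (strong form `Spr`) -/
theorem spr_oodd7 (hK : ∀ (X : Type) [Group X] [Finite X] [IsSimpleGroup X], Cfsg.IsKnownSimple' X) {F : Type}
    [Field F] [Fintype F] (hodd : Odd (Fintype.card F)) : H424.Spr.Spr (POmega F (quadFormOdd 3 F)) :=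
  spr_of_res (fun {_} _ _ ho H hH hS => H856.Tz.final hK ho H hH hS) hodd

end Cfsg.Agent.H36.Spr7
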