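import Cfsg.Agent.H129.CycCard
import Cfsg.Agent.H265.Der.Elts
import Cfsg.Agent.H424.Spr.Core
import Cfsg.Agent.H638.G2Iso
import Cfsg.Agent.H833.RS.O73Res
import Cfsg.Agent.H884.ElRows
import Cfsg.Agent.H925.OrthBasic
import Cfsg.Agent.H938.Sax.Num
import Cfsg.Agent.S2121

/-!
# The torus of order `(q^m + 1)/2` of `Ω_{2m+1}(q)` (a copy of part of helper833's `H833/RS/Gen.lean`, with light imports)
-/

set_option autoImplicit false
set_option linter.unusedSectionVars false

namespace Cfsg.Agent.H36.Spr7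

open Cfsg Cfsg.Geo Cfsg.Agent.H439.Der Cfsg.Agent.LieClassical.OmegaReindex Cfsg.Agent.H377
open Cfsg.Agent.LieClassical.OrthCore QuadraticMap Module
open Cfsg.Agent.H884.El (PP pre)
open Cfsg.Agent.H265.Der
open scoped MatrixGroups Matrix

/-- the index set -/
abbrev Ix (m : ℕ) := Unit ⊕ (Fin m ⊕ Fin m)

section gen

variable {F : Type} [Field F] [Fintype F]

/-- elements of `Ω_{2m+1}(q)` from isometries in dimension `2m` -/
theorem exists_gen (h2 : (2 : F) ≠ 0) {m : ℕ} (hm : 3 ≤ m) {V : Type*} [AddCommGroup V] [Module F V] [Finite V]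
    {Q₁ : QuadraticForm F V} (hQ₁ : Nondeg Q₁) (hV : finrank F V = 2 * m) (S : Module.End F V)
    (hS : ∀ v, Q₁ (S v) = Q₁ v) {N : ℕ} (hN : ∀ j : ℕ, S ^ (2 * j) = 1 ↔ N ∣ j) :
    ∃ (z : Omega F ⇑(quadOdd m F)) (e : (Ix m → F) ≃ₗ[F] V × F),
      orderOf (QuotientGroup.mk z : POmega F ⇑(quadOdd m F)) = N ∧
      ∀ (j : ℕ) (x : Ix m → F), e (ac (z ^ j) *ᵥ x) = ((S ^ (2 * j)) (e x).1, (e x).2) := by
  have : FiniteDimensional F V := Module.Finite.of_finite
  let Q₀ : QuadraticForm F F := QuadraticMap.sq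
  have hQ₀ : Nondeg Q₀ := by
    intro x hx
    have h3 := hx 1
    simp only [polar, Q₀, QuadraticMap.sq_apply] at h3
    have h4 : 2 * x = 0 := by linear_combination h3
    exact (mul_eq_zero.1 h4).resolve_left h2
  have hR : Nondeg (sumQ Q₁ Q₀) := sumQ_nondeg hQ₁ hQ₀
  have hfr : finrank F (V × F) = 2 * m + 1 := by
    rw [finrank_prod, finrank_self, hV]
  obtain ⟨c, e, hc, he⟩ := exists_similar_odd hfr (sumQ Q₁ Q₀) hR
  have hpow : ∀ j : ℕ, ((S.prodMap (1 : Module.End F F) : Module.End F _) ^ j) =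
      ((S ^ j).prodMap (1 : Module.End F F) : Module.End F _) := by
    intro j
    rw [prodMap_pow', one_pow]
  have hneg : ∀ j : ℕ, ((S.prodMap (1 : Module.End F F) : Module.End F _) ^ j) ≠ -1 := by
    intro j hj
    rw [hpow, prodMap_eq_neg_one_iff] at hj
    have h3 := LinearMap.congr_fun hj.2 (1 : F)
    change (1 : F) = -1 at h3
    apply h2
    linear_combination h3
  obtain ⟨z, hz1, hz2⟩ := exists_act (quadOdd m F) (H955.nondeg_iff.2 (quadOdd_nondegenerate h2))
    (by rw [H884.El.card_odd]; omega) (⇑(sumQ Q₁ Q₀)) e c hc (by rw [quadOdd_eq']; exact he)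
    (S.prodMap (1 : Module.End F F)) (by
      intro v
      change Q₁ (S v.1) + Q₀ v.2 = Q₁ v.1 + Q₀ v.2
      rw [hS]) N (by
      intro j
      rw [← hN, or_iff_left (hneg _), hpow, prodMap_eq_one_iff]
      exact and_iff_left rfl)
  refine ⟨z, e, hz1, fun j x => ?_⟩
  rw [hz2, LinearEquiv.apply_symm_apply, hpow, LinearMap.prodMap_apply]
  rfl

/-- powers equal to one -/
theorem pow_eq_one_of_gen {m : ℕ} {V : Type*} [AddCommGroup V] [Module F V] {S : Module.End F V}
    {z : Omega F ⇑(quadOdd m F)} {e : (Ix m → F) ≃ₗ[F] V × F} {j : ℕ}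
    (hz : ∀ x : Ix m → F, e (ac (z ^ j) *ᵥ x) = ((S ^ (2 * j)) (e x).1, (e x).2)) (h : S ^ (2 * j) = 1) :
    z ^ j = 1 := by
  apply eq_one_of_act
  intro x
  apply e.injective
  rw [hz, h]
  rfl

end gen

section tor

variable {F : Type} [Field F] [Fintype F]

/-- nondegeneracy of trace forms -/
theorem nondeg_trace {K : Type*} [Field K] [Finite K] [Algebra F K] {V : Type*} [AddCommGroup V] [Module F V]
    {Q : QuadraticForm F V} (B : V → V → K) (hB : ∀ x y, polar Q x y = Algebra.trace F K (B x y))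
    (h : ∀ x, x ≠ 0 → ∃ f : K → V, ∀ c, B x (f c) = c) : Nondeg Q := by
  intro x hx
  by_contra hne
  obtain ⟨f, hf⟩ := h x hne
  obtain ⟨t, ht⟩ := Algebra.trace_surjective F K 1
  have h5 := hx (f t)
  rw [hB, hf, ht] at h5
  exact one_ne_zero h5

/-- **the torus of order `(q^m + 1)/2`** -/
theorem exists_minus (h2 : (2 : F) ≠ 0) {m : ℕ} (hm : 3 ≤ m) {N : ℕ} (hN : 2 * N ∣ Nat.card F ^ m + 1) :
    ∃ (K : Type) (_ : Field K) (_ : Algebra F K) (z : Omega F ⇑(quadOdd m F)) (b : K) (i : K →ₗ[F] (Ix m → F)),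
      orderOf (QuotientGroup.mk z : POmega F ⇑(quadOdd m F)) = N ∧ orderOf b = N ∧ Function.Injective i ∧
      (∀ x, ac z *ᵥ i x = i (b * x)) ∧ ∀ j, N ∣ j → z ^ j = 1 := by
  obtain ⟨p, _⟩ := CharP.exists F
  have : Fact p.Prime := ⟨CharP.char_is_prime F p⟩
  have : NeZero (2 * m) := ⟨by omega⟩
  let K := FiniteField.Extension F p (2 * m)
  have hKc : Nat.card K = Nat.card F ^ (2 * m) := FiniteField.natCard_extension F p (2 * m)
  have hKf : finrank F K = 2 * m := FiniteField.finrank_extension F p (2 * m)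
  have hq1 : 1 < Nat.card F ^ m := Nat.one_lt_pow (by omega) Finite.one_lt_card
  have hN0 : 0 < N := by
    rcases Nat.eq_zero_or_pos N with rfl | h
    · rw [mul_zero, zero_dvd_iff] at hN
      omega
    · exact h
  have hfac : Nat.card F ^ (2 * m) - 1 = (Nat.card F ^ m + 1) * (Nat.card F ^ m - 1) := by
    rw [mul_comm 2 m, pow_mul, ← Nat.sq_sub_sq, one_pow]
  obtain ⟨g, hg⟩ := IsCyclic.exists_ofOrder_eq_natCard (α := Kˣ)
  rw [Nat.card_units, hKc, hfac] at hg
  obtain ⟨M', hM'⟩ := id hN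
  have hM'0 : M' * (Nat.card F ^ m - 1) ≠ 0 := by
    refine mul_ne_zero ?_ (by omega)
    rintro rfl
    omega
  let a : Kˣ := g ^ (M' * (Nat.card F ^ m - 1))
  have ha : orderOf a = 2 * N := by
    change orderOf (g ^ (M' * (Nat.card F ^ m - 1))) = 2 * N
    have h1 : orderOf g = 2 * N * (M' * (Nat.card F ^ m - 1)) := by rw [hg, hM', mul_assoc]
    rw [orderOf_pow_of_dvd hM'0 (by rw [h1]; exact Dvd.intro_left _ rfl), h1]
    exact Nat.mul_div_cancel _ (by omega)
  have hdiv : ∀ j, a ^ (2 * j) = 1 ↔ N ∣ j := by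
    intro j
    rw [← orderOf_dvd_iff_pow_eq_one, ha]
    exact Nat.mul_dvd_mul_iff_left (by norm_num)
  have hnorm : a ^ (Nat.card F ^ m + 1) = 1 := by
    rw [← orderOf_dvd_iff_pow_eq_one, ha]
    exact hN
  have hK2 : (2 : K) ≠ 0 := by
    intro h
    apply h2
    apply (algebraMap F K).injective
    rw [map_zero, map_ofNat]
    exact h
  let τ : K ≃ₐ[F] K := (FiniteField.frobeniusAlgEquivOfAlgebraic F K) ^ m
  have hτ : ∀ x, τ x = x ^ (Nat.card F ^ m) := by
    intro x
    change ((FiniteField.frobeniusAlgEquivOfAlgebraic F K) ^ m) x = _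
    rw [AlgEquiv.coe_pow, FiniteField.coe_frobeniusAlgEquivOfAlgebraic_iterate, Nat.card_eq_fintype_card]
  have hττ : ∀ x, τ (τ x) = x := by
    intro x
    let _ := Fintype.ofFinite K
    rw [hτ, hτ, ← pow_mul, ← pow_add, ← two_mul, ← hKc, Nat.card_eq_fintype_card]
    exact FiniteField.pow_card x
  have hTr : ∀ x, Algebra.trace F K (τ x) = Algebra.trace F K x := fun x => Algebra.trace_eq_of_algEquiv τ x
  let Q₁ : QuadraticForm F K := (Algebra.trace F K).compQuadraticMap
    (QuadraticMap.linMulLin (LinearMap.id : K →ₗ[F] K) (τ : K →ₗ[F] K))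
  have hQ₁' : ∀ v, Q₁ v = Algebra.trace F K (v * τ v) := fun v => rfl
  have hnd : Nondeg Q₁ := by
    refine nondeg_trace (F := F) (K := K) (fun x y => 2 * (x * τ y)) (fun x y => ?_) fun x hx => ?_
    · rw [polar, hQ₁', hQ₁', hQ₁', ← map_sub, ← map_sub]
      have h3 : Algebra.trace F K (y * τ x) = Algebra.trace F K (x * τ y) := by
        rw [← hTr, map_mul, hττ]
        exact congrArg _ (mul_comm _ _)
      have h4 : (x + y) * τ (x + y) - x * τ x - y * τ y = x * τ y + y * τ x := by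
        rw [map_add]
        ring
      rw [h4, map_add, h3, ← map_add]
      exact congrArg _ (two_mul (x * τ y)).symm
    · refine ⟨fun c => τ (c / (2 * x)), fun c => ?_⟩
      change 2 * (x * τ (τ (c / (2 * x)))) = c
      rw [hττ, ← mul_assoc]
      exact mul_div_cancel₀ c (mul_ne_zero hK2 hx)
  let S : Module.End F K := LinearMap.mulLeft F (a : K)
  have hSj : ∀ (j : ℕ) (v : K), (S ^ j) v = ((a ^ j : Kˣ) : K) * v := by
    intro j
    induction j with
    | zero => intro v; simp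
    | succ k ih =>
      intro v
      rw [pow_succ, Module.End.mul_apply, ih]
      change ((a ^ k : Kˣ) : K) * ((a : K) * v) = _
      rw [pow_succ, Units.val_mul, mul_assoc]
  have hSQ : ∀ v, Q₁ (S v) = Q₁ v := by
    intro v
    have h := hSj 1 v
    rw [pow_one] at h
    rw [h, hQ₁', hQ₁', pow_one]
    congr 1
    have h1 : (a : K) * τ (a : K) = 1 := by
      rw [hτ, ← pow_succ', ← Units.val_pow_eq_pow_val, hnorm, Units.val_one]
    rw [map_mul]
    linear_combination v * τ v * h1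
  have hS1 : ∀ j, S ^ (2 * j) = 1 ↔ N ∣ j := by
    intro j
    rw [← hdiv]
    constructor
    · intro h
      have h1 := hSj (2 * j) 1
      rw [h, mul_one] at h1
      exact Units.ext h1.symm
    · intro h
      refine LinearMap.ext fun v => ?_
      rw [hSj, h]
      simp
  obtain ⟨z, e, hz, hze⟩ := exists_gen h2 hm hnd hKf S hSQ hS1
  let i : K →ₗ[F] (Ix m → F) := (e.symm : _ →ₗ[F] _).comp (LinearMap.inl F K F)
  have hi : ∀ x, i x = e.symm (x, 0) := fun _ => rfl
  refine ⟨K, inferInstance, inferInstance, z, ((a ^ 2 : Kˣ) : K), i, hz, ?_, ?_, ?_, fun j hj => ?_⟩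
  · rw [orderOf_units, orderOf_pow_of_dvd (by norm_num) (by rw [ha]; exact Dvd.intro _ rfl), ha]
    exact Nat.mul_div_cancel_left _ (by norm_num)
  · intro x y hxy
    rw [hi, hi] at hxy
    exact congrArg Prod.fst (e.symm.injective hxy)
  · intro x
    apply e.injective
    have h1 := hze 1 (i x)
    rw [pow_one, mul_one, hi, LinearEquiv.apply_symm_apply, hSj] at h1
    rw [hi, h1, hi, LinearEquiv.apply_symm_apply]
  · exact pow_eq_one_of_gen (hze j) ((hS1 j).2 hj)

end tor

end Cfsg.Agent.H36.Spr7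

/-!
# 3/2-generation of `Ω₇(q)`, `q ≥ 5` (helper36, for helper862's S3938)

The element `s` of order `(q³ + 1)/2`; every proper subgroup through `s` stabilizes the minus hyperplane `[V, y]`,
`y` a power of `s` of order `r`, `r` a primitive prime divisor of `p^(6f) - 1`.
-/

namespace Cfsg.Agent.H36.Spr7

open Module QuadraticMap Cfsg Cfsg.Geo Cfsg.Agent.LieClassical.OrthCore Cfsg.Agent.H955 Cfsg.Agent.H954.TSing
open Cfsg.Agent.LieClassical.OmegaReindex
open Cfsg.Agent.H884.El Cfsg.Agent.H833.RS.O73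
open Cfsg.Agent.H951 (fx cm Inv)
open scoped MatrixGroups Matrix

section G2

open Cfsg.Lie

section Conj

variable {G : Type*} [Group G] [Finite G]

theorem exists_conj_mem {l : ℕ} [hl : Fact l.Prime] {T : Subgroup G} (hT : ¬ l ∣ T.index) {y : G} (hy : orderOf y = l) :
    ∃ g : G, g⁻¹ * y * g ∈ T := by
  classical
  obtain ⟨P⟩ : Nonempty (Sylow l T) := inferInstance
  have h1 : IsPGroup l ((P : Subgroup T).map T.subtype) := P.isPGroup'.map _
  have h2 : ¬ l ∣ ((P : Subgroup T).map T.subtype).index := by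
    have e : ((P : Subgroup T).map T.subtype).index = (P : Subgroup T).index * T.index := by
      rw [Subgroup.index_map_subtype]
    rw [e, hl.out.dvd_mul]
    rintro (h | h)
    · exact P.not_dvd_index h
    · exact hT h
  let Q : Sylow l G := h1.toSylow h2
  have hQ : (Q : Subgroup G) ≤ T := by
    show (P : Subgroup T).map T.subtype ≤ T
    exact Subgroup.map_subtype_le _
  have h3 : IsPGroup l (Subgroup.zpowers y) := by
    apply IsPGroup.of_card (n := 1)
    rw [Nat.card_zpowers, hy, pow_one]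
  obtain ⟨R, hR⟩ := h3.exists_le_sylow
  obtain ⟨g, hg⟩ := MulAction.exists_smul_eq G Q R
  refine ⟨g, hQ ?_⟩
  have h4 : y ∈ (R : Subgroup G) := hR (Subgroup.mem_zpowers y)
  rw [← hg, Sylow.coe_subgroup_smul] at h4
  have h5 := (Subgroup.mem_pointwise_smul_iff_inv_smul_mem).1 h4
  simpa using h5

theorem card_cent_le {l : ℕ} [hl : Fact l.Prime] {T : Subgroup G} (hT : ¬ l ∣ T.index)
    (hC : ∀ y ∈ T, orderOf y = l → Subgroup.centralizer {y} ≤ T) {y : G} (hy : orderOf y = l) :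
    Nat.card (Subgroup.centralizer ({y} : Set G)) ≤ Nat.card T := by
  obtain ⟨g, hg⟩ := exists_conj_mem hT hy
  have ho : orderOf (g⁻¹ * y * g) = l := by
    rw [← hy]
    have := orderOf_injective (MulAut.conj g⁻¹).toMonoidHom (MulAut.conj g⁻¹).injective y
    simpa using this
  have h1 := hC _ hg ho
  let f : Subgroup.centralizer ({y} : Set G) → T := fun x => ⟨g⁻¹ * x * g, h1 (by
    rw [Subgroup.mem_centralizer_singleton_iff]
    have h2 := Subgroup.mem_centralizer_singleton_iff.1 x.2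
    calc g⁻¹ * (x : G) * g * (g⁻¹ * y * g) = g⁻¹ * (x * y) * g := by group
      _ = g⁻¹ * (y * x) * g := by rw [h2]
      _ = _ := by group)⟩
  refine Nat.card_le_card_of_injective f ?_
  intro x x' h
  have h2 : g⁻¹ * (x : G) * g = g⁻¹ * x' * g := congrArg Subtype.val h
  exact Subtype.ext (mul_left_cancel (mul_right_cancel h2))

end Conj

/-- the order of the centralizer of an element of prime order dividing `q² - q + 1` -/
theorem card_cent6 {F : Type} [Field F] [Fintype F] {r : ℕ} (hr : PP (Fintype.card F) 6 r)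
    {y : ↥(chevG2.group F)} (hy : orderOf y = r) :
    Nat.card (Subgroup.centralizer ({y} : Set ↥(chevG2.group F))) ≤ Fintype.card F ^ 2 - Fintype.card F + 1 := by
  have : Fact r.Prime := ⟨hr.prime⟩
  obtain ⟨q, hqdef⟩ : ∃ q, q = Fintype.card F := ⟨_, rfl⟩
  rw [← hqdef] at hr ⊢
  have hq2 : 2 ≤ q := by rw [hqdef]; exact Fintype.one_lt_card
  have hqq : q ≤ q ^ 2 := by nlinarith
  have hlt := hr.lt (by norm_num)
  have hd : ∀ j, r ∣ q ^ j - 1 ↔ 6 ∣ j := fun j => hr.dvd_iff (by omega) j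
  have hmz : ((q ^ 2 - q + 1 : ℕ) : ℤ) = 1 - (q : ℤ) + (q : ℤ) ^ 2 := by
    push_cast [Nat.cast_sub hqq]; ring
  obtain ⟨s, hs⟩ : ∃ s, q = s + 1 := ⟨q - 1, by omega⟩
  have e2 : q ^ 2 - 1 = s * (s + 2) := by
    rw [hs]
    have : (s + 1) ^ 2 = s * (s + 2) + 1 := by ring
    omega
  have e3 : q ^ 3 - 1 = s * (s ^ 2 + 3 * s + 3) := by
    rw [hs]
    have : (s + 1) ^ 3 = s * (s ^ 2 + 3 * s + 3) + 1 := by ring
    omega
  have em : q ^ 2 - q + 1 = s ^ 2 + s + 1 := by
    rw [hs]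
    have : (s + 1) ^ 2 = s ^ 2 + s + (s + 1) := by ring
    omega
  have e6 : q ^ 6 - 1 = (q ^ 2 - q + 1) * ((s + 2) * (q ^ 3 - 1)) := by
    rw [em, e3, hs]
    have : (s + 1) ^ 6 = (s ^ 2 + s + 1) * ((s + 2) * (s * (s ^ 2 + 3 * s + 3))) + 1 := by ring
    omega
  have hr2 : ¬ r ∣ s + 2 := by
    intro h
    have h1 : r ∣ q ^ 2 - 1 := by rw [e2]; exact h.mul_left s
    rw [hd] at h1
    omega
  have hr3 : ¬ r ∣ q ^ 3 - 1 := by
    rw [hd]
    omega
  have hrm : r ∣ q ^ 2 - q + 1 := by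
    have h1 : r ∣ q ^ 6 - 1 := (hd 6).2 dvd_rfl
    rw [e6] at h1
    rcases (Nat.Prime.dvd_mul hr.prime).1 h1 with h | h
    · exact h
    · rcases (Nat.Prime.dvd_mul hr.prime).1 h with h | h
      · exact absurd h hr2
      · exact absurd h hr3
  have hdz : (r : ℤ) ∣ 1 - (q : ℤ) + (q : ℤ) ^ 2 := by
    rw [← hmz]; exact Int.natCast_dvd_natCast.2 hrm
  obtain ⟨T, -, hT1, hT2, hT3, hT4⟩ := Cfsg.Agent.H129.CycCard.card_G2_6 (F := F) hqdef.symm hmz hr.prime hdz (by omega)
  rw [one_mul] at hT2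
  have hT : Nat.card T = q ^ 2 - q + 1 := Nat.dvd_antisymm hT1 hT2
  have hcG := Cfsg.Agent.S1059.result (F := F) (q := q) hqdef.symm
  have hfin : Finite ↥(chevG2.group F) := by
    refine Nat.finite_of_card_ne_zero ?_
    rw [hcG]
    have h1 : 0 < q ^ 2 - 1 := by rw [e2]; nlinarith
    have h2 : 0 < q ^ 6 - 1 := by
      have : 2 ^ 6 ≤ q ^ 6 := Nat.pow_le_pow_left hq2 6
      omega
    positivity
  rw [← hT]
  refine card_cent_le ?_ hT4 hy
  intro hdi
  have h1 := T.card_mul_index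
  rw [hT, hcG] at h1
  have h2 : T.index = q ^ 6 * (q ^ 2 - 1) * ((s + 2) * (q ^ 3 - 1)) := by
    apply Nat.eq_of_mul_eq_mul_left (show 0 < q ^ 2 - q + 1 by omega)
    rw [h1, e6]
    ring
  rw [h2] at hdi
  rcases (Nat.Prime.dvd_mul hr.prime).1 hdi with h | h
  · rcases (Nat.Prime.dvd_mul hr.prime).1 h with h | h
    · exact hr.not_dvd (by norm_num) (hr.prime.dvd_of_dvd_pow h)
    · rw [hd] at h
      omega
  · rcases (Nat.Prime.dvd_mul hr.prime).1 h with h | h
    · exact hr2 h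
    · exact hr3 h

theorem orderOf_le6 {F : Type} [Field F] [Fintype F] {S : Type*} [Group S] [Finite S]
    (g : S ≃* ↥(chevG2.group F)) {r : ℕ} (hr : PP (Fintype.card F) 6 r) {t y : S} (hy : orderOf y = r)
    (h : t * y = y * t) : orderOf t ≤ Fintype.card F ^ 2 - Fintype.card F + 1 := by
  have hfinG : Finite ↥(chevG2.group F) := Finite.of_equiv _ g.toEquiv
  have hcent := card_cent6 (F := F) (r := r) hr (y := g y) (by rw [MulEquiv.orderOf_eq, hy])
  have hmem : g t ∈ Subgroup.centralizer ({g y} : Set _) := by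
    rw [Subgroup.mem_centralizer_singleton_iff, ← map_mul, ← map_mul, h]
  refine le_trans ?_ hcent
  rw [← MulEquiv.orderOf_eq g t, ← Subgroup.orderOf_mk _ hmem]
  exact Nat.le_of_dvd Nat.card_pos (orderOf_dvd_natCard _)

end G2

section sub

variable {F : Type} [Field F] [Fintype F]
variable {Q : QuadraticForm F (Unit ⊕ (Fin 3 ⊕ Fin 3) → F)} {y : Module.End F (Unit ⊕ (Fin 3 ⊕ Fin 3) → F)}
  {W : Submodule F (Unit ⊕ (Fin 3 ⊕ Fin 3) → F)} {r : ℕ}

/-- the totally singular case -/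
theorem ts_gen (h : Iso Q y r) (hQ : Nondeg Q) (hy1 : y ≠ 1) (hr : PP (Nat.card F) 6 r) (hW : Inv y W)
    (hWs : TS Q W) (hW0 : W ≠ ⊥) : False := by
  obtain ⟨hcm, -⟩ := h.even_case hQ hy1 hr ⟨3, rfl⟩ (by rw [finrank_seven]; omega)
  have h1 := h.ts_le hQ hy1 hr hcm hW hWs
  have h2 := h.finrank_add
  rw [finrank_seven] at h2
  have h3 : finrank F W ≠ 0 := fun h => hW0 (Submodule.finrank_eq_zero.1 h)
  have h4 : W = fx y := Submodule.eq_of_le_of_finrank_le h1 (by omega)
  refine ts_not_nondeg hWs le_rfl hW0 ?_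
  rw [h4]
  exact nondeg_fx hQ h.iso h.ne0 h.pow

/-- the even-dimensional nondegenerate case -/
theorem even_gen (h : Iso Q y r) (hQ : Nondeg Q) (hy1 : y ≠ 1) (hr : PP (Nat.card F) 6 r) (hW : Inv y W)
    (hW0 : W ≠ ⊥) (he : Even (finrank F W)) : W = cm y := by
  obtain ⟨hcm, -⟩ := h.even_case hQ hy1 hr ⟨3, rfl⟩ (by rw [finrank_seven]; omega)
  have h2 := h.finrank_add
  rw [finrank_seven] at h2
  have h3 : finrank F W ≠ 0 := fun h => hW0 (Submodule.finrank_eq_zero.1 h)
  have h7 := Submodule.finrank_le W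
  rw [finrank_seven] at h7
  obtain ⟨k, hk⟩ := he
  rcases h.le_or hr hcm hW with h4 | h4
  · have := Submodule.finrank_mono h4
    omega
  · have := Submodule.finrank_mono h4
    exact (Submodule.eq_of_le_of_finrank_le h4 (by omega)).symm

end sub

/-- a permutation of seven points of order divisible by seven -/
theorem perm_seven {σ : Equiv.Perm (Fin 7)} (h : 7 ∣ orderOf σ) : orderOf σ = 7 := by
  have key : ∀ s : Multiset ℕ, 7 ∣ s.lcm → ∃ a ∈ s, 7 ∣ a := by
    intro s
    induction s using Multiset.induction_on with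
    | empty => intro h; simp at h
    | cons a s ih =>
      intro h
      rw [Multiset.lcm_cons] at h
      have h1 : 7 ∣ a * s.lcm := h.trans (lcm_dvd_mul a s.lcm)
      rcases ((show Nat.Prime 7 by norm_num).dvd_mul).1 h1 with h2 | h2
      · exact ⟨a, Multiset.mem_cons_self _ _, h2⟩
      · obtain ⟨c, hc, hc2⟩ := ih h2
        exact ⟨c, Multiset.mem_cons_of_mem hc, hc2⟩
  obtain ⟨a, ha, ha7⟩ := key σ.cycleType (by rwa [Equiv.Perm.lcm_cycleType])
  have h1 := Equiv.Perm.le_card_support_of_mem_cycleType ha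
  have h2 : σ.support.card ≤ 7 := by
    have := σ.support.card_le_univ
    rwa [Fintype.card_fin] at this
  have h3 := Equiv.Perm.two_le_of_mem_cycleType ha
  have h4 := Nat.le_of_dvd (by omega) ha7
  obtain rfl : a = 7 := by omega
  obtain ⟨s, hs⟩ := Multiset.exists_cons_of_mem ha
  have h5 := Equiv.Perm.sum_cycleType σ
  rw [hs, Multiset.sum_cons] at h5
  have h6 : s.sum = 0 := by omega
  have h7 : s = 0 := by
    refine Multiset.eq_zero_of_forall_notMem fun b hb => ?_
    have h8 := Equiv.Perm.two_le_of_mem_cycleType (σ := σ) (n := b) (by rw [hs]; exact Multiset.mem_cons_of_mem hb)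
    have h9 := Multiset.single_le_sum (fun x _ => Nat.zero_le x) b hb
    omega
  rw [← Equiv.Perm.lcm_cycleType, hs, h7]
  simp


section main

variable {F : Type} [Field F] [Fintype F]

/-- the conclusion of S5815 -/
def Res7 (F : Type) [Field F] [Fintype F] : Prop :=
  ∀ H : Subgroup (GL (Unit ⊕ (Fin 3 ⊕ Fin 3)) F), IsMaximalIn (omegaGL (quadFormOdd 3 F)) H →
    InOrthogonalResidualClass H →
    ∃ P : Subgroup (GL (Unit ⊕ (Fin 3 ⊕ Fin 3)) F), IsResidualCore H P ∧
    ((Nonempty ((P ⧸ (scalars (Unit ⊕ (Fin 3 ⊕ Fin 3)) F).subgroupOf P) ≃* alternatingGroup (Fin 9)) ∧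
      Fintype.card F = 3) ∨
     (Nonempty ((P ⧸ (scalars (Unit ⊕ (Fin 3 ⊕ Fin 3)) F).subgroupOf P) ≃* Cfsg.PSp 3 (ZMod 2)) ∧
      (Fintype.card F).Prime) ∨
     Nonempty ((P ⧸ (scalars (Unit ⊕ (Fin 3 ⊕ Fin 3)) F).subgroupOf P) ≃* Cfsg.Lie.G2 F))

/-- the stabilizer of a subspace -/
def stab (ψ : POmega F ⇑(quadOdd 3 F) →* GL (Unit ⊕ (Fin 3 ⊕ Fin 3)) F)
    (W : Submodule F (Unit ⊕ (Fin 3 ⊕ Fin 3) → F)) : Subgroup (POmega F ⇑(quadOdd 3 F)) :=
  (subspaceStabilizer W).comap ψ

theorem stab_ne_top (h2 : (2 : F) ≠ 0) {ψ : POmega F ⇑(quadOdd 3 F) →* GL (Unit ⊕ (Fin 3 ⊕ Fin 3)) F}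
    (hr : ψ.range = omegaGL (⇑(quadOdd 3 F))) {W : Submodule F (Unit ⊕ (Fin 3 ⊕ Fin 3) → F)} (h0 : W ≠ ⊥)
    (h1 : W ≠ ⊤) : stab ψ W ≠ ⊤ := by
  intro h
  have h3 : ∀ g ∈ omegaGL (⇑(quadOdd 3 F)), ∀ w ∈ W, (g : Matrix _ _ F) *ᵥ w ∈ W := by
    intro g hg w hw
    rw [← hr] at hg
    obtain ⟨x, rfl⟩ := hg
    have h4 : x ∈ stab ψ W := by rw [h]; trivial
    exact (Cfsg.Agent.H884.OmegaGL.mem_subspaceStabilizer.1 (Subgroup.mem_comap.1 h4)) w hw
  have h4 : IsNondegenerateQuadraticForm (⇑(quadOdd 3 F)) := by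
    rw [coe_quadOdd]
    exact Cfsg.Agent.H922.isNondegenerateQuadraticForm_quadFormOdd 3 h2
  rcases Cfsg.Agent.H925.omegaGL_irreducible h4 (by simp) W h3 with h5 | h5
  · exact h0 h5
  · exact h1 h5

theorem not_comm (h2 : (2 : F) ≠ 0) {s : POmega F ⇑(quadOdd 3 F)} (hs : s ≠ 1) :
    ∃ x y : POmega F ⇑(quadOdd 3 F), x * y ≠ y * x := by
  by_contra hcon
  push Not at hcon
  obtain ⟨ψ, hψ, hr, -⟩ := exists_emb (F := F) h2
  have h4 : IsNondegenerateQuadraticForm (⇑(quadOdd 3 F)) := by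
    rw [coe_quadOdd]
    exact Cfsg.Agent.H922.isNondegenerateQuadraticForm_quadFormOdd 3 h2
  have h5 := Cfsg.Agent.H925.omegaGL_perfect h4 (by simp)
  have h6 : omegaGL (⇑(quadOdd 3 F)) = ⊥ := by
    rw [← h5, ← hr, Subgroup.commutator_eq_bot_iff_le_centralizer]
    rintro _ ⟨x, rfl⟩
    rw [Subgroup.mem_centralizer_iff]
    rintro _ ⟨y, rfl⟩
    rw [← map_mul, ← map_mul, hcon]
  have h7 : ψ s ∈ omegaGL (⇑(quadOdd 3 F)) := by rw [← hr]; exact ⟨s, rfl⟩
  rw [h6, Subgroup.mem_bot] at h7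
  exact hs (hψ (by rw [h7, map_one]))

/-- **the residual class** for `q ≥ 5` -/
theorem res_big (h2 : (2 : F) ≠ 0) (h3 : Fintype.card F ≠ 3) (hres : Res7 F)
    {p f r N : ℕ} (hp : p.Prime) (hf : 1 ≤ f) (hF : Fintype.card F = p ^ f) (hr : PP p (f * 6) r)
    (hN : 2 * N = Fintype.card F ^ 3 + 1)
    {M : Subgroup (POmega F ⇑(quadOdd 3 F))}
    (hmax : IsMaximalIn (omegaGL (quadFormOdd 3 F)) (pre (⇑(quadOdd 3 F)) M))
    (hM : InOrthogonalResidualClass (pre (⇑(quadOdd 3 F)) M))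
    {s : POmega F ⇑(quadOdd 3 F)} (hs : s ∈ M) (hso : orderOf s = N) : False := by
  have hpf := Fact.mk hp
  have hrf := Fact.mk hr.prime
  have hfin : Finite (POmega F ⇑(quadOdd 3 F)) := Quotient.finite _
  obtain ⟨q, hq⟩ : ∃ q, q = Fintype.card F := ⟨_, rfl⟩
  have hrq : PP q 6 r := by rw [hq, hF]; exact hr.of_pow hf
  have hp2 : p ≠ 2 := by
    rintro rfl
    have hch : CharP F 2 := charP_of_card_eq_prime_pow hF
    apply h2
    have := CharP.cast_eq_zero F 2
    exact_mod_cast this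
  have hq5 : 5 ≤ q := by
    have hp3 : 3 ≤ p := by have := hp.two_le; omega
    rcases Nat.lt_or_ge p 4 with h | h
    · obtain rfl : p = 3 := by omega
      have hf1 : f ≠ 1 := by
        rintro rfl
        exact h3 (by rw [hF, pow_one])
      have : 3 ^ 2 ≤ 3 ^ f := Nat.pow_le_pow_right (by norm_num) (by omega)
      rw [hq, hF]
      omega
    · have hp5 : 5 ≤ p := by
        have : p ≠ 4 := by
          rintro rfl
          exact absurd hp (by norm_num)
        omega
      rw [hq, hF]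
      calc 5 ≤ p := hp5
        _ = p ^ 1 := (pow_one p).symm
        _ ≤ p ^ f := Nat.pow_le_pow_right (by omega) hf
  rw [← hq] at hN
  have hqq : q ≤ q ^ 2 := by nlinarith
  have hfac : 2 * N = (q + 1) * (q ^ 2 - q + 1) := by
    rw [hN]
    obtain ⟨a, ha⟩ : ∃ a, q ^ 2 = q + a := ⟨q ^ 2 - q, by omega⟩
    have e1 : q ^ 2 - q + 1 = a + 1 := by omega
    rw [e1]
    have e2 : q ^ 3 = q * q ^ 2 := by ring
    have e3 : q * a + q * q = q ^ 3 := by rw [e2, ha]; ring
    nlinarith [e3, ha]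
  have hrN : r ∣ N := by
    have h4 := H938.Sax.dvd_pow_add_one (q := q) (e := 3) (by omega) (by norm_num) hrq
    rw [← hN] at h4
    rcases (Nat.Prime.dvd_mul hr.prime).1 h4 with h5 | h5
    · have h6 := Nat.le_of_dvd (by norm_num) h5
      have h7 := hrq.lt (by norm_num)
      omega
    · exact h5
  have hr6 := hrq.lt (by norm_num)
  have hN0 : 0 < N := by
    rcases Nat.eq_zero_or_pos N with h | h
    · rw [h] at hN; omega
    · exact h
  obtain ⟨P, hP, hcase⟩ := hres _ hmax hM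
  obtain ⟨S, hSn, hSs, hna, hC, ⟨e⟩⟩ := H264.FKS.exists_res_omega (quadOdd_nondegenerate h2)
      (by rw [H884.El.card_odd]; norm_num) (quadOdd_isotropic (by norm_num)) hP
  rcases hcase with ⟨-, h⟩ | ⟨⟨e'⟩, -⟩ | ⟨⟨e'⟩⟩
  · exact h3 h
  · -- `Sp₆(2)`
    have hc := card_psp32 (F := ZMod 2) (ZMod.card 2)
    have hfin2 : Finite (PSp 3 (ZMod 2)) := Nat.finite_of_card_ne_zero (by rw [hc]; norm_num)
    have h1 := H264.FKS.dvd_aut S hC
    have hcS : Nat.card S = 1451520 := by rw [Nat.card_congr (e.trans e').toEquiv, hc]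
    rw [Nat.card_congr (MulAut.congr (e.trans e')).toEquiv, aut_psp32 (ZMod.card 2)] at h1
    have h4 : r ∣ 1451520 := by
      refine (hrN.trans ?_).trans h1
      rw [← hso, ← Subgroup.orderOf_mk s hs]
      exact orderOf_dvd_natCard _
    have h7 : r = 7 := by
      rw [show 1451520 = 2 ^ 9 * (3 ^ 4 * (5 * 7)) by norm_num] at h4
      rcases (Nat.Prime.dvd_mul hr.prime).1 h4 with h | h
      · have := Nat.le_of_dvd (by norm_num) (hr.prime.dvd_of_dvd_pow h)
        omega
      · rcases (Nat.Prime.dvd_mul hr.prime).1 h with h | h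
        · have := Nat.le_of_dvd (by norm_num) (hr.prime.dvd_of_dvd_pow h)
          omega
        · rcases (Nat.Prime.dvd_mul hr.prime).1 h with h | h
          · have := Nat.le_of_dvd (by norm_num) h
            omega
          · exact (Nat.prime_dvd_prime_iff_eq hr.prime (by norm_num)).1 h
    subst h7
    obtain ⟨k, hk⟩ := hrN
    have hk1 : 1 < k := by
      have : 7 * 9 ≤ 7 * k := by
        rw [← hk]
        have : 5 ^ 3 ≤ q ^ 3 := Nat.pow_le_pow_left hq5 3
        omega
      omega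
    rw [← hcS, ← S.card_mul_index] at h1
    have h8 : S.index ∣ 1 := by
      refine Nat.dvd_of_mul_dvd_mul_left (Nat.card_pos (α := S)) ?_
      rwa [mul_one]
    refine ne_of_index (S := S) (n := N) (fun g => ?_) (by rw [Nat.dvd_one.1 h8]; exact Nat.coprime_one_right _)
      ⟨s, hs⟩ (by rw [Subgroup.orderOf_mk, hso])
    rw [← MulEquiv.orderOf_eq (e.trans e'), hk]
    exact ne_of_selfcent (r := 7) (k := k) (by norm_num) (by rw [hc]; norm_num)
      (Cfsg.Agent.H732.SelfCent.psp_selfcent 3 2 7 (by simp) (ZMod 2) (ZMod.card 2)) hk1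
  · -- `G₂(q)`
    obtain ⟨e''⟩ := H638.G2Iso.equiv (F := F)
    have hch : CharP F p := charP_of_card_eq_prime_pow hF
    have ho := Cfsg.Agent.S2121.result p f hF (by rw [← hF, ← hq]; omega)
    have hidx := index_dvd_out hna hC
    rw [H934.OutB.card_out_congr ((e.trans e').trans e''), ho] at hidx
    have hk0 : 0 < S.index := Nat.pos_of_ne_zero S.index_ne_zero_of_finite
    have hk2 : S.index ≤ 2 * f := by
      split_ifs at hidx with h
      · exact Nat.le_of_dvd (by omega) hidx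
      · exact (Nat.le_of_dvd (by omega) hidx).trans (by omega)
    have hr6f := hr.lt (by omega)
    have hco : Nat.Coprime r S.index := by
      rw [hr.prime.coprime_iff_not_dvd]
      intro h
      have := Nat.le_of_dvd hk0 h
      omega
    let sM : M := ⟨s, hs⟩
    have hsM : orderOf sM = N := by rw [Subgroup.orderOf_mk, hso]
    have hyo : orderOf (sM ^ (N / r)) = r := by
      rw [orderOf_pow_of_dvd (Nat.div_pos (Nat.le_of_dvd hN0 hrN) hr.prime.pos).ne' (by
        rw [hsM]; exact Nat.div_dvd_of_dvd hrN), hsM]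
      exact Nat.div_div_self hrN hN0.ne'
    have hyS : sM ^ (N / r) ∈ S := Cfsg.Agent.H833.RS.Frat.mem_of_coprime S (by rwa [hyo])
    have htS : sM ^ S.index ∈ S := Subgroup.pow_index_mem S sM
    have hle : orderOf (sM ^ S.index) ≤ q ^ 2 - q + 1 := by
      rw [hq]
      have h5 := orderOf_le6 ((e.trans e').trans e'') (r := r) (by rw [← hq]; exact hrq)
        (t := ⟨sM ^ S.index, htS⟩) (y := ⟨sM ^ (N / r), hyS⟩) (by rw [Subgroup.orderOf_mk, hyo]) (by
          apply Subtype.ext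
          show sM ^ S.index * sM ^ (N / r) = sM ^ (N / r) * sM ^ S.index
          rw [← pow_add, ← pow_add, add_comm])
      rwa [Subgroup.orderOf_mk] at h5
    have hNle : N ≤ S.index * (q ^ 2 - q + 1) := by
      have h5 : sM ^ (S.index * orderOf (sM ^ S.index)) = 1 := by rw [pow_mul, pow_orderOf_eq_one]
      have h6 := orderOf_dvd_of_pow_eq_one h5
      rw [hsM] at h6
      have h7 : 0 < orderOf (sM ^ S.index) := orderOf_pos _
      exact (Nat.le_of_dvd (Nat.mul_pos hk0 h7) h6).trans (Nat.mul_le_mul_left _ hle)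
    have hfin3 : q + 1 ≤ 2 * S.index := by
      have h5 : (q + 1) * (q ^ 2 - q + 1) ≤ (2 * S.index) * (q ^ 2 - q + 1) := by
        rw [← hfac, mul_assoc]
        exact Nat.mul_le_mul_left 2 hNle
      exact Nat.le_of_mul_le_mul_right h5 (by omega)
    have h2f : f < 2 ^ f := Nat.lt_two_pow_self
    by_cases hp3 : p = 3
    · rw [if_pos hp3] at hidx
      subst hp3
      have h5 : q + 1 ≤ 4 * f := by omega
      rw [hq, hF] at h5
      have h6 : ∀ n, 2 ≤ n → 4 * n < 3 ^ n + 1 := by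
        intro n hn
        induction n, hn using Nat.le_induction with
        | base => norm_num
        | succ n hn ih =>
          rw [pow_succ]
          have : 3 ^ 1 ≤ 3 ^ n := Nat.pow_le_pow_right (by norm_num) (by omega)
          omega
      rcases Nat.lt_or_ge f 2 with h | h
      · obtain rfl : f = 1 := by omega
        exact h3 (by rw [hF, pow_one])
      · have := h6 f h
        omega
    · rw [if_neg hp3] at hidx
      have h5 : S.index ≤ f := Nat.le_of_dvd hf hidx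
      have h6 : q + 1 ≤ 2 * f := by omega
      have hp4 : 4 ≤ p := by
        have := hp.two_le
        omega
      have h7 : 4 ^ f ≤ p ^ f := Nat.pow_le_pow_left hp4 f
      have h8 : 2 * 2 ^ f ≤ 4 ^ f := by
        have h9 : 4 ^ f = 2 ^ f * 2 ^ f := by rw [← mul_pow]; norm_num
        rw [h9]
        exact Nat.mul_le_mul_right _ (by
          calc 2 = 2 ^ 1 := rfl
            _ ≤ 2 ^ f := Nat.pow_le_pow_right (by norm_num) hf)
      rw [hq, hF] at h6
      omega

/-- **`Ω₇(q)`, `q ≥ 5`** -/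
theorem spr_big (hodd : Odd (Fintype.card F)) (h3 : Fintype.card F ≠ 3) (hres : Res7 F)
    (hsim : IsSimpleGroup (POmega F ⇑(quadOdd 3 F))) : H424.Spr.Spr (POmega F ⇑(quadOdd 3 F)) := by
  have h2 : (2 : F) ≠ 0 := H264.FKS.two_ne_zero_of_odd hodd
  have hfin : Finite (POmega F ⇑(quadOdd 3 F)) := Quotient.finite _
  obtain ⟨p, hch⟩ := CharP.exists F
  have hp : p.Prime := CharP.char_is_prime F p
  obtain ⟨f, -, hF⟩ := FiniteField.card F p
  have hf : 1 ≤ (f : ℕ) := f.pos
  obtain ⟨r, hr⟩ := exists_ppp (e := 6) hp hf (by norm_num) (fun h => by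
    rw [hF, h.1] at hodd
    exact absurd hodd (by decide)) (fun b hb => by omega)
  have hcN : Nat.card F = Fintype.card F := Nat.card_eq_fintype_card
  have hrq : PP (Nat.card F) 6 r := by rw [hcN, hF]; exact hr.of_pow hf
  have hrq' : PP (Fintype.card F) 6 r := by rw [← hcN]; exact hrq
  obtain ⟨N, hN⟩ : ∃ N, 2 * N = Fintype.card F ^ 3 + 1 := by
    obtain ⟨k, hk⟩ := hodd.pow (n := 3)
    exact ⟨k + 1, by omega⟩
  obtain ⟨K, _, _, z, -, -, hs, -, -, -, -⟩ := exists_minus (F := F) h2 (m := 3) le_rfl (N := N) (by rw [hcN, hN])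
  obtain ⟨s, hs'⟩ : ∃ s : POmega F ⇑(quadOdd 3 F), orderOf s = N := ⟨_, hs⟩
  have hq1 : 1 < Fintype.card F := Fintype.one_lt_card
  have hr6 := hrq.lt (by norm_num)
  have hrN : r ∣ N := by
    have h4 := H938.Sax.dvd_pow_add_one (q := Fintype.card F) (e := 3) (by omega) (by norm_num) hrq'
    rw [← hN] at h4
    rcases (Nat.Prime.dvd_mul hr.prime).1 h4 with h5 | h5
    · have h6 := Nat.le_of_dvd (by norm_num) h5
      omega
    · exact h5
  have hq5 : 5 ≤ Fintype.card F := by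
    obtain ⟨k, hk⟩ := hodd
    omega
  have hN63 : 63 ≤ N := by
    have : 5 ^ 3 ≤ Fintype.card F ^ 3 := Nat.pow_le_pow_left hq5 3
    omega
  have hy : orderOf (s ^ (N / r)) = r := by
    rw [orderOf_pow_of_dvd (Nat.div_pos (Nat.le_of_dvd (by omega) hrN) hr.prime.pos).ne' (by
      rw [hs']; exact Nat.div_dvd_of_dvd hrN), hs']
    exact Nat.div_div_self hrN (by omega)
  have hs1 : s ≠ 1 := by
    rintro rfl
    rw [orderOf_one] at hs'
    omega
  obtain ⟨ψ, hψ, hrg, hpre⟩ := exists_emb (F := F) h2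
  have hQ := nondeg_odd (F := F) h2
  obtain ⟨i1, i2⟩ := iso_of_order hψ hrg hrq (by norm_num) hy
  have hcm6 := i1.even_case hQ i2 hrq ⟨3, rfl⟩ (by rw [finrank_seven]; omega)
  refine H424.Spr.spr_of_one (not_comm h2 hs1) (s := s) (M := stab ψ (cm (lin (ψ (s ^ (N / r)))))) ?_ ?_
  · refine stab_ne_top h2 hrg (fun h => ?_) (fun h => ?_)
    · have := hcm6.1
      rw [h, finrank_bot] at this
      omega
    · have := hcm6.1
      rw [h, finrank_top, finrank_seven] at this
      omega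
  · intro K hsK hK
    obtain ⟨M, hM, hKM⟩ := (eq_top_or_exists_le_coatom K).resolve_left hK
    refine hKM.trans ?_
    have hsM : s ∈ M := hKM hsK
    have hyM : s ^ (N / r) ∈ M := pow_mem hsM _
    have hmax : IsMaximalIn (omegaGL ⇑(quadOdd 3 F)) (pre (⇑(quadOdd 3 F)) M) := by
      rw [hpre, ← hrg]
      exact isMaximalIn_map hψ hM
    have hmem : ∀ z ∈ M, ψ z ∈ pre (⇑(quadOdd 3 F)) M := fun z hz => by rw [hpre]; exact ⟨z, hz, rfl⟩
    obtain ⟨H, hH⟩ : ∃ H, H = pre (⇑(quadOdd 3 F)) M := ⟨_, rfl⟩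
    have hmaxH : IsMaximalIn (omegaGL (quadFormOdd 3 F)) H := by rw [hH, ← coe_quadOdd]; exact hmax
    rw [← hH] at hmem
    rcases Cfsg.Agent.S5814.result (F := F) hodd H hmaxH with
      ⟨W, hW0, hWs, hHW⟩ | ⟨W, hW0, he, hWn, -, hHW⟩ | ⟨-, D, hD, hHD⟩ | ⟨F₀, t, P, ht, hcard, -, hHP⟩ | h6
    · exfalso
      rw [← coe_quadOdd] at hWs
      have hinv : ∀ z ∈ M, Inv (lin (ψ z)) W := fun z hz => inv_of_mem (by
        have := hmem z hz
        rw [hHW] at this
        exact this.1)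
      exact ts_gen i1 hQ i2 hrq (hinv _ hyM) hWs hW0
    · have hinv : ∀ z ∈ M, Inv (lin (ψ z)) W := fun z hz => inv_of_mem (by
        have := hmem z hz
        rw [hHW] at this
        exact this.1)
      have hW := even_gen i1 hQ i2 hrq (hinv _ hyM) hW0 he
      intro g hg
      rw [stab, Subgroup.mem_comap, ← hW]
      have := hmem g hg
      rw [hHW] at this
      exact this.1
    · exfalso
      have hD' := hD.decomp
      rw [← coe_quadOdd] at hD'
      have h4 := hmem s hsM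
      rw [hHD] at h4
      obtain ⟨σ, hσ⟩ := h4.1
      have h5 := frame_pow hD' (iso_emb hψ hrg s) hσ
      have h7 : s ^ (orderOf σ * 2) = 1 := by
        by_contra hne
        apply lin_emb_ne hψ hrg hne
        rw [map_pow, lin, H251.GeoCard.toLin_pow]
        exact h5
      have h8 : N ∣ orderOf σ * 2 := by
        rw [← hs']
        exact orderOf_dvd_of_pow_eq_one h7
      have h9 : r ∣ orderOf σ := by
        rcases (Nat.Prime.dvd_mul hr.prime).1 (hrN.trans h8) with h | h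
        · exact h
        · have := Nat.le_of_dvd (by norm_num) h
          omega
      have h10 : r ∣ Nat.factorial 7 := by
        refine h9.trans ((orderOf_dvd_natCard σ).trans ?_)
        rw [Nat.card_eq_fintype_card, Fintype.card_perm, Fintype.card_fin]
      have h11 : r ≤ 7 := (Nat.Prime.dvd_factorial hr.prime).1 h10
      obtain rfl : r = 7 := by omega
      rw [perm_seven h9] at h8
      have := Nat.le_of_dvd (by norm_num) h8
      omega
    · exfalso
      refine kill_subfield (H := H) (by rw [hHP]; exact inf_le_left) ht (by rw [hcN]; exact hcard) hp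
        (by rw [hcN]; exact hF) hr (by rw [H884.El.card_odd]; norm_num) (by norm_num) ?_
      rw [← hy, ← orderOf_injective ψ hψ, ← Subgroup.orderOf_mk _ (hmem _ hyM)]
      exact orderOf_dvd_natCard _
    · exfalso
      rw [hH] at h6 hmaxH
      exact res_big h2 h3 hres hp hf hF hr hN hmaxH h6 hsM hs'

end main

end Cfsg.Agent.H36.Spr7
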