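import Cfsg.Agent.H265.Der.Semi
import Cfsg.Agent.H36.Spr7.Big
import Cfsg.Agent.H957.Bridge
import Cfsg.Agent.LieClassical.OmegaReindex
import Cfsg.Agent.S0295
import Cfsg.Agent.S0750
import Cfsg.Agent.UGT.U2.Rec.Congr

/-!
# Explicit isometries of the seven-dimensional orthogonal space over the field with three elements (helper36)
-/

set_option autoImplicit false
set_option linter.unusedSectionVars false

namespace Cfsg.Agent.H36.Spr7.Three

open QuadraticMap Module Cfsg.Agent.LieClassical.OmegaReindex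
open scoped Matrix

abbrev K3 : Type := ZMod 3

abbrev I7 : Type := Unit ⊕ (Fin 3 ⊕ Fin 3)

abbrev V7 : Type := I7 → K3

abbrev Q7 : QuadraticForm K3 V7 := quadOdd 3 K3

/-- the polar form -/
def b7 (x y : V7) : K3 :=
  2 * x (.inl ()) * y (.inl ()) +
    ∑ i : Fin 3, (x (.inr (.inl i)) * y (.inr (.inr i)) + y (.inr (.inl i)) * x (.inr (.inr i)))

theorem polar_eq (x y : V7) : polar (⇑Q7) x y = b7 x y := polar_quadOdd x y

theorem three0 : (3 : K3) = 0 := by decide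

theorem polar_self (x : V7) : polar (⇑Q7) x x = -Q7 x := by
  rw [polar, ← two_smul K3 x, QuadraticMap.map_smul, smul_eq_mul]
  linear_combination Q7 x * three0

theorem q7_eq (x : V7) : Q7 x = -polar (⇑Q7) x x := by rw [polar_self, neg_neg]

/-- the index -/
def ix : I7 → Fin 7 := Sum.elim (fun _ => 0) (Sum.elim ![1, 2, 3] ![4, 5, 6])

/-- vectors -/
def vec (l : Fin 7 → K3) : V7 := fun i => l (ix i)

/-- matrices -/
def mat (m : Matrix (Fin 7) (Fin 7) K3) : Matrix I7 I7 K3 := fun i j => m (ix i) (ix j)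

theorem isom_of {A : Matrix I7 I7 K3}
    (h : ∀ i j, b7 (fun k => A k i) (fun k => A k j) = b7 (Pi.single i 1) (Pi.single j 1)) (x y : V7) :
    polar (⇑Q7) (A *ᵥ x) (A *ᵥ y) = polar (⇑Q7) x y := by
  have h1 : (polarBilin Q7).compl₁₂ (Matrix.toLin' A) (Matrix.toLin' A) = polarBilin Q7 := by
    refine (Pi.basisFun K3 I7).ext fun i => (Pi.basisFun K3 I7).ext fun j => ?_
    rw [LinearMap.compl₁₂_apply, Pi.basisFun_apply, Pi.basisFun_apply, Matrix.toLin'_apply, Matrix.toLin'_apply,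
      Matrix.mulVec_single_one, Matrix.mulVec_single_one]
    change polar (⇑Q7) _ _ = polar (⇑Q7) _ _
    rw [polar_eq, polar_eq]
    exact h i j
  have h2 := congrArg (fun f => f x y) h1
  exact h2

/-- the isometry of order seven -/
def Z1 : Matrix I7 I7 K3 := mat !![1,0,0,1,0,0,0; 0,1,0,0,0,2,0; 0,0,0,1,0,0,0; 0,2,2,0,2,1,0; 0,0,0,0,1,2,0;
  1,0,0,2,0,0,1; 0,0,0,0,0,2,0]

/-- a square root of `-1` on the hyperplane -/
def J1 : Matrix I7 I7 K3 := mat !![0,1,0,0,1,0,0; 1,2,0,0,1,0,0; 0,0,0,2,0,0,0; 0,0,1,0,0,0,0; 1,1,0,0,2,0,0;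
  0,0,0,0,0,0,2; 0,0,0,0,0,1,0]

def p1 : V7 := vec ![0,1,0,0,2,0,0]

def vI : V7 := vec ![0,0,0,1,0,1,2]

def vII : V7 := vec ![0,1,0,0,2,0,1]

theorem Z1_isom : ∀ x y : V7, polar (⇑Q7) (Z1 *ᵥ x) (Z1 *ᵥ y) = polar (⇑Q7) x y := isom_of (by decide +kernel)

theorem J1_isom : ∀ x y : V7, polar (⇑Q7) (J1 *ᵥ x) (J1 *ᵥ y) = polar (⇑Q7) x y := isom_of (by decide +kernel)


def Z2 : Matrix I7 I7 K3 := mat !![1,2,2,1,2,1,0; 2,1,0,1,0,2,2; 0,2,2,0,2,1,0; 1,2,0,1,2,2,1; 2,0,0,1,1,2,2; 1,1,1,1,1,1,0; 2,0,0,1,0,0,2]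

def Z3 : Matrix I7 I7 K3 := mat !![2,1,2,2,1,0,1; 1,0,2,0,2,1,2; 1,2,0,1,2,2,1; 0,1,2,2,1,2,2; 1,2,2,0,0,1,2; 2,0,2,1,0,2,1; 2,2,2,2,2,2,0]

def Z4 : Matrix I7 I7 K3 := mat !![2,2,1,1,2,2,0; 2,0,0,2,2,2,1; 0,1,2,2,1,2,2; 2,2,1,0,2,1,2; 2,2,0,2,0,2,1; 1,2,2,2,2,0,2; 1,0,1,2,0,1,2]

theorem mul11 : Z1 * Z1 = Z2 := by decide +kernel

theorem mul12 : Z1 * Z2 = Z3 := by decide +kernel

theorem mul21 : Z2 * Z1 = Z3 := by decide +kernel

theorem mul22 : Z2 * Z2 = Z4 := by decide +kernel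

theorem mul34 : Z3 * Z4 = 1 := by decide +kernel

theorem Z1_pow : Z1 ^ 7 = 1 := by
  have h : Z1 ^ 7 = (Z1 * (Z1 * Z1)) * ((Z1 * Z1) * (Z1 * Z1)) := by noncomm_ring
  rw [h, mul11, mul12, mul22, mul34]

theorem Z1_ne : Z1 ≠ 1 := by
  intro h
  have h1 := congrFun (congrFun h (.inl ())) (.inr (.inl 2))
  revert h1
  decide +kernel

theorem Z1_p : Z1 *ᵥ p1 = p1 := by
  have h : ∀ i, (Z1 *ᵥ p1) i = p1 i := by decide +kernel
  exact funext h

theorem J1_sq (y : V7) : J1 *ᵥ (J1 *ᵥ y) = -y - polar (⇑Q7) y p1 • p1 := by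
  let f : V7 →ₗ[K3] V7 := -LinearMap.id - ((polarBilin Q7).flip p1).smulRight p1
  have h1 : Matrix.toLin' (J1 * J1) = f := by
    refine (Pi.basisFun K3 I7).ext fun j => ?_
    rw [Pi.basisFun_apply, Matrix.toLin'_apply, Matrix.mulVec_single_one]
    change (J1 * J1).col j = -Pi.single j 1 - polar (⇑Q7) (Pi.single j 1) p1 • p1
    rw [polar_eq]
    have h : ∀ j i, (J1 * J1) i j = -(Pi.single j 1 : V7) i - b7 (Pi.single j 1) p1 * p1 i := by decide +kernel
    exact funext fun i => h j i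
  have h2 := congrArg (fun g => g y) h1
  rw [Matrix.mulVec_mulVec]
  exact h2

theorem patI : polar (⇑Q7) vI p1 = 0 ∧ Q7 vI = -1 ∧ Q7 p1 = -1 ∧ polar (⇑Q7) vI (Z1 *ᵥ vI) ≠ 0 ∧
    polar (⇑Q7) vI (Z1 *ᵥ (Z1 *ᵥ vI)) ≠ 0 ∧ polar (⇑Q7) vI (Z1 *ᵥ (Z1 *ᵥ (Z1 *ᵥ vI))) ≠ 0 := by
  rw [Matrix.mulVec_mulVec, Matrix.mulVec_mulVec, mul11, mul12, q7_eq, q7_eq]
  simp only [polar_eq]
  decide +kernel

theorem patII : polar (⇑Q7) vII p1 = 1 ∧ Q7 vII = -1 ∧ polar (⇑Q7) vII (Z1 *ᵥ (Z1 *ᵥ (Z1 *ᵥ vII))) = 0 := by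
  rw [Matrix.mulVec_mulVec, Matrix.mulVec_mulVec, mul11, mul21, q7_eq]
  simp only [polar_eq]
  decide +kernel

/-! ### Witt's theorem for pairs -/

theorem li_pair {p v : V7} (hp : Q7 p = -1) (hv : Q7 v = -1) (h1 : v ≠ p) (h2 : v ≠ -p) :
    LinearIndependent K3 ![p, v] := by
  have hp0 : p ≠ 0 := by
    rintro rfl
    rw [QuadraticMap.map_zero] at hp
    exact absurd hp (by decide)
  rw [LinearIndependent.pair_iff' hp0]
  intro a ha
  have h3 : ∀ a : K3, a = 0 ∨ a = 1 ∨ a = -1 := by decide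
  rcases h3 a with rfl | rfl | rfl
  · rw [zero_smul] at ha
    rw [← ha, QuadraticMap.map_zero] at hv
    exact absurd hv (by decide)
  · exact h1 (by rw [← ha, one_smul])
  · exact h2 (by rw [← ha, neg_smul, one_smul])

theorem witt2 {p v p' v' : V7} (hli : LinearIndependent K3 ![p, v]) (hli' : LinearIndependent K3 ![p', v'])
    (hp : Q7 p = Q7 p') (hv : Q7 v = Q7 v') (hb : polar (⇑Q7) v p = polar (⇑Q7) v' p') :
    ∃ h : V7 ≃ₗ[K3] V7, (∀ x, Q7 (h x) = Q7 x) ∧ h p = p' ∧ h v = v' := by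
  let B := Basis.span hli
  let B' := Basis.span hli'
  let φ := B.equiv B' (Equiv.refl _)
  have hφ0 : (φ (B 0) : V7) = p' := by
    rw [Basis.equiv_apply]
    exact congrArg Subtype.val (Basis.span_apply hli' 0)
  have hφ1 : (φ (B 1) : V7) = v' := by
    rw [Basis.equiv_apply]
    exact congrArg Subtype.val (Basis.span_apply hli' 1)
  have hB0 : (B 0 : V7) = p := congrArg Subtype.val (Basis.span_apply hli 0)
  have hB1 : (B 1 : V7) = v := congrArg Subtype.val (Basis.span_apply hli 1)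
  have key : ∀ (a b : K3) (x y : V7), Q7 (a • x + b • y) = a * a * Q7 x + b * b * Q7 y + b * a * polar (⇑Q7) y x := by
    intro a b x y
    rw [QuadraticMap.map_add (⇑Q7), QuadraticMap.map_smul, QuadraticMap.map_smul, polar_smul_left, polar_smul_right,
      polar_comm (⇑Q7) x y]
    simp only [smul_eq_mul]
    ring
  obtain ⟨g, hg1, hg2⟩ := Cfsg.Agent.S0750.result Q7 (quadOdd_nondegenerate (by decide)) _ _ φ (by
    intro x
    have h1 := B.sum_repr x
    rw [Fin.sum_univ_two] at h1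
    have h2 : (x : V7) = (B.repr x 0) • p + (B.repr x 1) • v := by
      have h4 := congrArg Subtype.val h1.symm
      rw [h4]
      change (B.repr x 0) • (B 0 : V7) + (B.repr x 1) • (B 1 : V7) = _
      rw [hB0, hB1]
    have h3 : (φ x : V7) = (B.repr x 0) • p' + (B.repr x 1) • v' := by
      have h4 := congrArg (fun y => (φ y : V7)) h1.symm
      change (φ x : V7) = (φ ((B.repr x 0) • B 0 + (B.repr x 1) • B 1) : V7) at h4
      rw [h4, map_add, map_smul, map_smul]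
      change (B.repr x 0) • (φ (B 0) : V7) + (B.repr x 1) • (φ (B 1) : V7) = _
      rw [hφ0, hφ1]
    rw [h3, h2, key, key, hp, hv, hb])
  refine ⟨g, hg1, ?_, ?_⟩
  · rw [← hφ0, ← hg2, hB0]
  · rw [← hφ1, ← hg2, hB1]

/-- a linear equivalence from a matrix of finite order -/
theorem exists_equiv {A : Matrix I7 I7 K3} {n : ℕ} (hn : n ≠ 0) (h : A ^ n = 1) :
    ∃ f : V7 ≃ₗ[K3] V7, ∀ v, f v = A *ᵥ v := by
  obtain ⟨k, rfl⟩ := Nat.exists_eq_succ_of_ne_zero hn
  refine ⟨LinearEquiv.ofLinearMap (Matrix.toLin' A) (Matrix.toLin' (A ^ k)) ?_ ?_, fun v => rfl⟩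
  · rw [← Matrix.toLin'_mul, ← pow_succ', h, Matrix.toLin'_one]
  · rw [← Matrix.toLin'_mul, ← pow_succ, h, Matrix.toLin'_one]

/-- **the pair** -/
theorem exists_h {p v : V7} (hp : Q7 p = -1) (hv : Q7 v = -1) (h1 : v ≠ p) (h2 : v ≠ -p) :
    ∃ J Z : V7 ≃ₗ[K3] V7, (∀ x, Q7 (J x) = Q7 x) ∧ (∀ x, Q7 (Z x) = Q7 x) ∧
      (∀ y, J (J y) = -y - polar (⇑Q7) y p • p) ∧ (∀ y, (Z ^ 7) y = y) ∧ Z ≠ 1 ∧ Z p = p ∧
      ((polar (⇑Q7) v p = 0 ∧ polar (⇑Q7) v (Z v) ≠ 0 ∧ polar (⇑Q7) v (Z (Z v)) ≠ 0 ∧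
          polar (⇑Q7) v (Z (Z (Z v))) ≠ 0) ∨
        (polar (⇑Q7) v p ≠ 0 ∧ polar (⇑Q7) v (Z (Z (Z v))) = 0)) := by
  obtain ⟨a1, a2, a3, a4, a5, a6⟩ := patI
  obtain ⟨b1, b2, b3⟩ := patII
  obtain ⟨Z₀, hZ₀⟩ := exists_equiv (by norm_num) Z1_pow
  have hJ4 : J1 ^ 4 = 1 := by
    have h : J1 ^ 4 = (J1 * J1) * (J1 * J1) := by noncomm_ring
    rw [h]
    have h3 : J1 * J1 = mat !![2,0,0,0,0,0,0; 0,0,0,0,2,0,0; 0,0,2,0,0,0,0; 0,0,0,2,0,0,0; 0,2,0,0,0,0,0;
      0,0,0,0,0,2,0; 0,0,0,0,0,0,2] := by decide +kernel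
    rw [h3]
    decide +kernel
  obtain ⟨J₀, hJ₀⟩ := exists_equiv (by norm_num) hJ4
  have hZp : ∀ x y, polar (⇑Q7) (Z₀ x) (Z₀ y) = polar (⇑Q7) x y := fun x y => by rw [hZ₀, hZ₀, Z1_isom]
  have hJp : ∀ x y, polar (⇑Q7) (J₀ x) (J₀ y) = polar (⇑Q7) x y := fun x y => by rw [hJ₀, hJ₀, J1_isom]
  have hZ7 : ∀ y, (Z₀ ^ 7) y = y := by
    intro y
    have h3 : ∀ n : ℕ, ∀ y, (Z₀ ^ n) y = (Z1 ^ n) *ᵥ y := by
      intro n
      induction n with
      | zero => intro y; simp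
      | succ n ih =>
        intro y
        rw [pow_succ, pow_succ, LinearEquiv.mul_apply, ih, hZ₀, Matrix.mulVec_mulVec]
    rw [h3, Z1_pow, Matrix.one_mulVec]
  have hZ1 : Z₀ ≠ 1 := by
    intro h
    apply Z1_ne
    apply Matrix.ext_of_mulVec_single
    intro i
    rw [← hZ₀, h, Matrix.one_mulVec]
    rfl
  -- transport
  have main : ∀ v₀ : V7, Q7 v₀ = -1 → v₀ ≠ p1 → v₀ ≠ -p1 → (polar (⇑Q7) v₀ p1 = polar (⇑Q7) v p) →
      ∃ J Z : V7 ≃ₗ[K3] V7, (∀ x, Q7 (J x) = Q7 x) ∧ (∀ x, Q7 (Z x) = Q7 x) ∧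
      (∀ y, J (J y) = -y - polar (⇑Q7) y p • p) ∧ (∀ y, (Z ^ 7) y = y) ∧ Z ≠ 1 ∧ Z p = p ∧
      polar (⇑Q7) v (Z v) = polar (⇑Q7) v₀ (Z₀ v₀) ∧
      polar (⇑Q7) v (Z (Z v)) = polar (⇑Q7) v₀ (Z₀ (Z₀ v₀)) ∧
      polar (⇑Q7) v (Z (Z (Z v))) = polar (⇑Q7) v₀ (Z₀ (Z₀ (Z₀ v₀))) := by
    intro v₀ c1 c2 c3 c4
    obtain ⟨h, hh1, hh2, hh3⟩ := witt2 (li_pair a3 c1 c2 c3) (li_pair hp hv h1 h2) (by rw [a3, hp]) (by rw [c1, hv]) c4
    have hpol : ∀ x y, polar (⇑Q7) (h x) (h y) = polar (⇑Q7) x y := by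
      intro x y
      simp only [polar, ← map_add, hh1]
    have hconj : ∀ y, h.symm y = h.symm y := fun _ => rfl
    have hvs : h.symm v = v₀ := by rw [← hh3, LinearEquiv.symm_apply_apply]
    have hps : h.symm p = p1 := by rw [← hh2, LinearEquiv.symm_apply_apply]
    have e1 : ∀ (f : V7 ≃ₗ[K3] V7) y, (h * f * h⁻¹) y = h (f (h.symm y)) := fun f y => rfl
    have e2 : ∀ x, Q7 (h.symm x) = Q7 x := by
      intro x
      rw [← hh1, LinearEquiv.apply_symm_apply]
    refine ⟨h * J₀ * h⁻¹, h * Z₀ * h⁻¹, ?_, ?_, ?_, ?_, ?_, ?_, ?_, ?_, ?_⟩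
    · intro x
      rw [e1, hh1, q7_eq, hJp, ← q7_eq, e2]
    · intro x
      rw [e1, hh1, q7_eq, hZp, ← q7_eq, e2]
    · intro y
      rw [e1, e1, LinearEquiv.symm_apply_apply, hJ₀, hJ₀, J1_sq, map_sub, map_neg, map_smul, hh2,
        LinearEquiv.apply_symm_apply]
      congr 2
      rw [← hpol, hh2, LinearEquiv.apply_symm_apply]
    · intro y
      have h3 : (h * Z₀ * h⁻¹) ^ 7 = h * Z₀ ^ 7 * h⁻¹ := conj_pow
      rw [h3, e1, hZ7, LinearEquiv.apply_symm_apply]
    · intro h3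
      apply hZ1
      calc Z₀ = h⁻¹ * (h * Z₀ * h⁻¹) * h := by group
        _ = 1 := by rw [h3]; group
    · rw [e1, hps, hZ₀, Z1_p, hh2]
    · rw [e1, hvs, ← hh3, hpol]
    · rw [e1, e1, hvs, LinearEquiv.symm_apply_apply, ← hh3, hpol]
    · rw [e1, e1, e1, hvs, LinearEquiv.symm_apply_apply, LinearEquiv.symm_apply_apply, ← hh3, hpol]
  have hpp1 : polar (⇑Q7) p1 p1 = 1 := by rw [polar_self, a3, neg_neg]
  have hI1 : vI ≠ p1 := by
    intro h
    rw [h, hpp1] at a1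
    exact absurd a1 (by decide)
  have hI2 : vI ≠ -p1 := by
    intro h
    rw [h, polar_neg_left, hpp1] at a1
    exact absurd a1 (by decide)
  have hII1 : vII ≠ p1 := by
    intro h
    have := congrFun h (.inr (.inr 2))
    revert this
    decide +kernel
  have hII2 : vII ≠ -p1 := by
    intro h
    have := congrFun h (.inr (.inr 2))
    revert this
    decide +kernel
  have cases3 : ∀ a : K3, a = 0 ∨ a = 1 ∨ a = -1 := by decide
  rcases cases3 (polar (⇑Q7) v p) with h3 | h3 | h3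
  · obtain ⟨J, Z, c1, c2, c3, c4, c5, c6, c7, c8, c9⟩ := main vI a2 hI1 hI2 (by rw [a1, h3])
    refine ⟨J, Z, c1, c2, c3, c4, c5, c6, Or.inl ⟨h3, ?_, ?_, ?_⟩⟩
    · rw [c7, hZ₀]; exact a4
    · rw [c8, hZ₀, hZ₀]; exact a5
    · rw [c9, hZ₀, hZ₀, hZ₀]; exact a6
  · obtain ⟨J, Z, c1, c2, c3, c4, c5, c6, c7, c8, c9⟩ := main vII b2 hII1 hII2 (by rw [b1, h3])
    refine ⟨J, Z, c1, c2, c3, c4, c5, c6, Or.inr ⟨by rw [h3]; decide, ?_⟩⟩
    rw [c9, hZ₀, hZ₀, hZ₀]; exact b3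
  · obtain ⟨J, Z, c1, c2, c3, c4, c5, c6, c7, c8, c9⟩ := main (-vII) (by rw [QuadraticMap.map_neg, b2])
      (fun h => hII2 (by rw [← h, neg_neg])) (fun h => hII1 (neg_injective h)) (by rw [polar_neg_left, b1, h3])
    refine ⟨J, Z, c1, c2, c3, c4, c5, c6, Or.inr ⟨by rw [h3]; decide, ?_⟩⟩
    rw [c9, map_neg, map_neg, map_neg, polar_neg_left, polar_neg_right, neg_neg, hZ₀, hZ₀, hZ₀]; exact b3

end Cfsg.Agent.H36.Spr7.Three

/-!
# Elements of order 14 and transpositions in the symmetric group of degree nine (helper36)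
-/

namespace Cfsg.Agent.H36.Spr7.Three

open Equiv

/-- an involution whose products with all transpositions have order at most three is a transposition -/
theorem exists_swap {u : Perm (Fin 9)} (hu1 : u ≠ 1) (hu2 : u * u = 1)
    (h : ∀ i j, i ≠ j → (u * swap i j) ^ 2 = 1 ∨ (u * swap i j) ^ 3 = 1) : ∃ a b, a ≠ b ∧ u = swap a b := by
  have huu : ∀ x, u (u x) = x := fun x => by rw [← Perm.mul_apply, hu2, Perm.one_apply]
  obtain ⟨a, ha⟩ : ∃ a, u a ≠ a := by
    by_contra hcon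
    push Not at hcon
    exact hu1 (Equiv.ext hcon)
  refine ⟨a, u a, ha.symm, ?_⟩
  by_contra hne
  obtain ⟨c, hca, hcb, hc⟩ : ∃ c, c ≠ a ∧ c ≠ u a ∧ u c ≠ c := by
    by_contra hcon
    push Not at hcon
    apply hne
    ext x
    by_cases h1 : x = a
    · rw [h1, swap_apply_left]
    · by_cases h2 : x = u a
      · rw [h2, swap_apply_right, huu]
      · rw [swap_apply_of_ne_of_ne h1 h2, hcon x h1 h2]
  have e1 : (u * swap a c) a = u c := by rw [Perm.mul_apply, swap_apply_left]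
  have hda : u c ≠ a := by
    intro h1
    apply hcb
    rw [← h1, huu]
  have e2 : (u * swap a c) (u c) = c := by
    rw [Perm.mul_apply, swap_apply_of_ne_of_ne hda hc, huu]
  have e3 : (u * swap a c) c = u a := by rw [Perm.mul_apply, swap_apply_right]
  have p2 : ∀ f : Perm (Fin 9), (f ^ 2) a = f (f a) := fun f => by rw [pow_two]; rfl
  have p3 : ∀ f : Perm (Fin 9), (f ^ 3) a = f (f (f a)) := fun f => by rw [pow_succ', pow_two]; rfl
  rcases h a c hca.symm with h1 | h1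
  · have h2 := congrArg (fun f : Perm (Fin 9) => f a) h1
    change ((u * swap a c) ^ 2) a = a at h2
    rw [p2, e1, e2] at h2
    exact hca h2
  · have h2 := congrArg (fun f : Perm (Fin 9) => f a) h1
    change ((u * swap a c) ^ 3) a = a at h2
    rw [p3, e1, e2, e3] at h2
    exact ha h2

/-- the standard element of order 14 -/
def c0 : Perm (Fin 9) := ⟨![1, 2, 3, 4, 5, 6, 0, 8, 7], ![6, 0, 1, 2, 3, 4, 5, 8, 7], by decide, by decide⟩

/-- the standard element of order 7 -/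
def z0 : Perm (Fin 9) := ⟨![1, 2, 3, 4, 5, 6, 0, 7, 8], ![6, 0, 1, 2, 3, 4, 5, 7, 8], by decide, by decide⟩

theorem c0_14 : c0 ^ 14 = 1 := by decide +kernel

theorem c0_7 : c0 ^ 7 = swap 7 8 := by decide +kernel

theorem c0_8 : c0 ^ 8 = z0 := by decide +kernel

theorem orderOf_c0 : orderOf c0 = 14 := by
  rw [orderOf_eq_iff (by norm_num)]
  exact ⟨c0_14, by decide +kernel⟩

/-- the pattern of a transposition -/
def Pat (t z u : Perm (Fin 9)) : Prop :=
  (u * t = t * u → ∃ k ∈ ({1, 2, 3} : Finset ℕ), u * (z ^ k * u * (z ^ k)⁻¹) = (z ^ k * u * (z ^ k)⁻¹) * u) ∧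
    (u * t ≠ t * u → u * (z ^ 3 * u * (z ^ 3)⁻¹) ≠ (z ^ 3 * u * (z ^ 3)⁻¹) * u)

instance decPat (t z u : Perm (Fin 9)) : Decidable (Pat t z u) := by
  unfold Pat
  infer_instance

theorem pat0 : ∀ a b : Fin 9, a ≠ b → swap a b ≠ swap 7 8 → Pat (swap 7 8) z0 (swap a b) := by decide +kernel

theorem cycleType_14 {c : Perm (Fin 9)} (h : orderOf c = 14) : c.cycleType = {7, 2} := by
  have key : ∀ s : Multiset ℕ, 7 ∣ s.lcm → ∃ a ∈ s, 7 ∣ a := by
    intro s
    induction s using Multiset.induction_on with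
    | empty => intro h; simp at h
    | cons a s ih =>
      intro h
      rw [Multiset.lcm_cons] at h
      have h1 : 7 ∣ a * s.lcm := h.trans (lcm_dvd_mul a s.lcm)
      rcases ((show Nat.Prime 7 by norm_num).dvd_mul).1 h1 with h2 | h2
      · exact ⟨a, Multiset.mem_cons_self _ _, h2⟩
      · obtain ⟨c, hc, hc2⟩ := ih h2
        exact ⟨c, Multiset.mem_cons_of_mem hc, hc2⟩
  have h14 : c.cycleType.lcm = 14 := by rw [Equiv.Perm.lcm_cycleType, h]
  obtain ⟨a, ha, ha7⟩ := key c.cycleType (by rw [h14]; norm_num)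
  have h2 : c.support.card ≤ 9 := by
    have := c.support.card_le_univ
    rwa [Fintype.card_fin] at this
  have h5 := Equiv.Perm.sum_cycleType c
  have h3 := Equiv.Perm.two_le_of_mem_cycleType ha
  have hale := Equiv.Perm.le_card_support_of_mem_cycleType ha
  have h4 := Nat.le_of_dvd (by omega) ha7
  obtain rfl : a = 7 := by omega
  obtain ⟨s, hs⟩ := Multiset.exists_cons_of_mem ha
  rw [hs, Multiset.sum_cons] at h5
  rw [hs, Multiset.lcm_cons] at h14
  have hs0 : s ≠ 0 := by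
    rintro rfl
    simp at h14
  obtain ⟨b, hb⟩ := Multiset.exists_mem_of_ne_zero hs0
  have h8 := Equiv.Perm.two_le_of_mem_cycleType (σ := c) (n := b) (by rw [hs]; exact Multiset.mem_cons_of_mem hb)
  obtain ⟨s', hs'⟩ := Multiset.exists_cons_of_mem hb
  rw [hs', Multiset.sum_cons] at h5
  obtain rfl : b = 2 := by omega
  have h9 : s' = 0 := by
    refine Multiset.eq_zero_of_forall_notMem fun b hb => ?_
    have h8 := Equiv.Perm.two_le_of_mem_cycleType (σ := c) (n := b) (by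
      rw [hs, hs']; exact Multiset.mem_cons_of_mem (Multiset.mem_cons_of_mem hb))
    have h9 := Multiset.single_le_sum (fun x _ => Nat.zero_le x) b hb
    omega
  rw [hs, hs', h9]
  rfl

/-- elements of order 14 -/
theorem exists_conj {c : Perm (Fin 9)} (h : orderOf c = 14) : ∃ π : Perm (Fin 9), π * c0 * π⁻¹ = c := by
  have h1 : IsConj c0 c := by
    rw [Equiv.Perm.isConj_iff_cycleType_eq, cycleType_14 h, cycleType_14 orderOf_c0]
  exact isConj_iff.1 h1

theorem swap_7 {c : Perm (Fin 9)} (h : orderOf c = 14) : ∃ a b, a ≠ b ∧ c ^ 7 = swap a b := by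
  obtain ⟨π, rfl⟩ := exists_conj h
  refine ⟨π 7, π 8, fun h => absurd (π.injective h) (by decide), ?_⟩
  rw [conj_pow, c0_7, ← Equiv.swap_apply_apply]

/-- **the pattern** -/
theorem pattern {c : Perm (Fin 9)} (h : orderOf c = 14) {a b : Fin 9} (hab : a ≠ b) (hne : swap a b ≠ c ^ 7) :
    Pat (c ^ 7) (c ^ 8) (swap a b) := by
  obtain ⟨π, rfl⟩ := exists_conj h
  obtain ⟨a', rfl⟩ := π.surjective a
  obtain ⟨b', rfl⟩ := π.surjective b
  have hab' : a' ≠ b' := fun h => hab (by rw [h])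
  rw [conj_pow, conj_pow, c0_7, c0_8, Equiv.swap_apply_apply] at *
  have h1 : swap a' b' ≠ swap 7 8 := fun h => hne (by rw [h])
  have h2 := pat0 a' b' hab' h1
  have e : ∀ x y : Perm (Fin 9), π * x * π⁻¹ * (π * y * π⁻¹) = π * (x * y) * π⁻¹ := fun x y => by group
  have e' : ∀ (k : ℕ), (π * z0 * π⁻¹) ^ k * (π * swap a' b' * π⁻¹) * ((π * z0 * π⁻¹) ^ k)⁻¹ =
      π * (z0 ^ k * swap a' b' * (z0 ^ k)⁻¹) * π⁻¹ := fun k => by rw [conj_pow]; group
  have e'' : ∀ x y : Perm (Fin 9), π * x * π⁻¹ = π * y * π⁻¹ ↔ x = y := fun x y =>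
    ⟨fun h => mul_left_cancel (mul_right_cancel h), fun h => by rw [h]⟩
  refine ⟨fun h3 => ?_, fun h3 => ?_⟩
  · rw [e, e, e''] at h3
    obtain ⟨k, hk, h4⟩ := h2.1 h3
    refine ⟨k, hk, ?_⟩
    rw [e', e, e, h4]
  · rw [Ne, e, e, e''] at h3
    have h4 := h2.2 h3
    rw [e', Ne, e, e, e'']
    exact h4

end Cfsg.Agent.H36.Spr7.Three

/-!
# The 3-transpositions of `Ω₇(3)` (helper36)
-/

namespace Cfsg.Agent.H36.Spr7.Three

open Module QuadraticMap Cfsg Cfsg.Geo Cfsg.Agent.LieClassical.OrthCore Cfsg.Agent.H955 Cfsg.Agent.H954.TSing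
open Cfsg.Agent.LieClassical.OmegaReindex
open Cfsg.Agent.H884.El Cfsg.Agent.H833.RS.O73
open Cfsg.Agent.H951 (fx cm Inv)
open scoped MatrixGroups Matrix

/-- the group `Ω₇(3)` -/
abbrev L7 : Type := POmega K3 ⇑Q7

theorem two_ne3 : (2 : K3) ≠ 0 := by decide

theorem card3 : Fintype.card K3 = 3 := ZMod.card 3

/-- the embedding in `GL₇(3)` -/
structure Emb (ψ : L7 →* GL I7 K3) : Prop where
  inj : Function.Injective ψ
  range : ψ.range = omegaGL (⇑Q7)
  pre : ∀ M : Subgroup L7, pre (⇑Q7) M = M.map ψ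
  mk' : ∀ g : Omega K3 ⇑Q7, ψ (QuotientGroup.mk g) = ((g : isometryGroup K3 ⇑Q7) : GL I7 K3)

theorem exists_Emb : ∃ ψ : L7 →* GL I7 K3, Emb ψ := by
  have h2 := two_ne3
  have hc : Subgroup.center (Omega K3 ⇑Q7) = ⊥ := by
    refine LieClassical.OrthCenter.center_omega_eq_bot_of_odd h2 (quadOdd_nondegenerate h2)
      (by rw [H884.El.card_odd]; omega) (by rw [H884.El.card_odd]; exact ⟨3, rfl⟩)
      (quadOdd_isotropic (by omega))
  have hbij : Function.Bijective (QuotientGroup.mk' (Subgroup.center (Omega K3 ⇑Q7))) := by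
    refine ⟨?_, QuotientGroup.mk'_surjective _⟩
    rw [← MonoidHom.ker_eq_bot_iff, QuotientGroup.ker_mk', hc]
  let e : Omega K3 ⇑Q7 ≃* L7 := MulEquiv.ofBijective _ hbij
  have he : ∀ x, e x = QuotientGroup.mk' (Subgroup.center (Omega K3 ⇑Q7)) x := fun _ => rfl
  let φ : Omega K3 ⇑Q7 →* GL I7 K3 :=
    (isometryGroup K3 ⇑Q7).subtype.comp (Omega K3 ⇑Q7).subtype
  have hφ : Function.Injective φ :=
    (isometryGroup K3 ⇑Q7).subtype_injective.comp (Omega K3 ⇑Q7).subtype_injective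
  refine ⟨φ.comp e.symm.toMonoidHom, hφ.comp e.symm.injective, ?_, fun M => ?_, fun g => ?_⟩
  · ext g
    constructor
    · rintro ⟨x, rfl⟩
      exact ⟨_, (e.symm x).2, rfl⟩
    · rintro ⟨y, hy, rfl⟩
      refine ⟨e ⟨y, hy⟩, ?_⟩
      show φ (e.symm (e ⟨y, hy⟩)) = _
      rw [MulEquiv.symm_apply_apply]
      rfl
  · ext g
    constructor
    · rintro ⟨_, ⟨x, hx, rfl⟩, rfl⟩
      refine ⟨e x, hx, ?_⟩
      show φ (e.symm (e x)) = _
      rw [MulEquiv.symm_apply_apply]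
      rfl
    · rintro ⟨x, hx, rfl⟩
      refine ⟨_, ⟨e.symm x, ?_, rfl⟩, rfl⟩
      show e (e.symm x) ∈ M
      rwa [MulEquiv.apply_symm_apply]
  · show φ (e.symm (e g)) = _
    rw [MulEquiv.symm_apply_apply]
    rfl

section emb

variable {ψ : L7 →* GL I7 K3} (hψ : Emb ψ)

include hψ

theorem Emb.ext {x y : L7} (h : ∀ v, lin (ψ x) v = lin (ψ y) v) : x = y := by
  apply hψ.inj
  apply Units.ext
  exact Matrix.toLin'.injective (LinearMap.ext h)

theorem Emb.mul (x y : L7) (v : V7) : lin (ψ (x * y)) v = lin (ψ x) (lin (ψ y) v) := lin_mul hψ.inj hψ.range x y v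

theorem Emb.one (v : V7) : lin (ψ 1) v = v := by
  rw [map_one, lin_one]; rfl

theorem Emb.inv_left (x : L7) (v : V7) : lin (ψ x⁻¹) (lin (ψ x) v) = v := by
  rw [← hψ.mul, inv_mul_cancel, hψ.one]

theorem Emb.inv_right (x : L7) (v : V7) : lin (ψ x) (lin (ψ x⁻¹) v) = v := by
  rw [← hψ.mul, mul_inv_cancel, hψ.one]

theorem Emb.Q (x : L7) (v : V7) : Q7 (lin (ψ x) v) = Q7 v := iso_emb hψ.inj hψ.range x v

theorem Emb.pol (x : L7) (v w : V7) : polar (⇑Q7) (lin (ψ x) v) (lin (ψ x) w) = polar (⇑Q7) v w := by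
  simp only [polar, ← map_add, hψ.Q]

theorem Emb.pow (x : L7) (n : ℕ) (v : V7) : lin (ψ (x ^ (n + 1))) v = lin (ψ x) (lin (ψ (x ^ n)) v) := by
  rw [pow_succ', hψ.mul]

/-- squares of isometries -/
theorem Emb.exists_sq {J : V7 ≃ₗ[K3] V7} (hJ : ∀ x, Q7 (J x) = Q7 x) : ∃ t : L7, ∀ y, lin (ψ t) y = J (J y) := by
  have hI : H957.glOf J ∈ isometryGroup K3 ⇑Q7 := by
    rw [H957.mem_isometryGroup]
    intro v
    rw [H957.glOf_mulVec, hJ]
  have h1 : (⟨H957.glOf J, hI⟩ : isometryGroup K3 ⇑Q7) ^ 2 ∈ Omega K3 ⇑Q7 := by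
    refine H957.sq_mem_commutator (ClassicalGeometry.GenReflections.closure_refls_eq_top Q7
      (quadOdd_nondegenerate two_ne3) (Or.inl (by rw [Nat.card_eq_fintype_card, card3]; norm_num))) ?_ _
    rintro s ⟨v, hv, hs⟩
    have : s = ClassicalGeometry.Reflection.reflIso Q7 v hv := Subtype.ext (Units.ext hs)
    rw [this, pow_two]
    exact ClassicalGeometry.Reflection.reflIso_mul_self Q7 v hv
  refine ⟨QuotientGroup.mk ⟨_, h1⟩, fun y => ?_⟩
  rw [hψ.mk', lin, Matrix.toLin'_apply]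
  change ((H957.glOf J ^ 2 : GL I7 K3) : Matrix I7 I7 K3) *ᵥ y = _
  rw [pow_two, Units.val_mul, ← Matrix.mulVec_mulVec, H957.glOf_mulVec, H957.glOf_mulVec]

/-- isometries of odd order -/
theorem Emb.exists_odd {Z : V7 ≃ₗ[K3] V7} (hZ : ∀ x, Q7 (Z x) = Q7 x) (h7 : ∀ y, (Z ^ 7) y = y) :
    ∃ z : L7, ∀ y, lin (ψ z) y = Z y := by
  have hZ4 : ∀ x, Q7 ((Z ^ 4) x) = Q7 x := by
    intro x
    have h : (Z ^ 4) x = Z (Z (Z (Z x))) := rfl
    rw [h, hZ, hZ, hZ, hZ]
  obtain ⟨t, ht⟩ := hψ.exists_sq hZ4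
  refine ⟨t, fun y => ?_⟩
  rw [ht]
  have h : (Z ^ 4) ((Z ^ 4) y) = (Z ^ 7) (Z y) := rfl
  rw [h, h7]

/-- the transposition of `v` -/
def IsT (ψ : L7 →* GL I7 K3) (v : V7) (t : L7) : Prop := ∀ y, lin (ψ t) y = -y - polar (⇑Q7) y v • v

omit hψ in
theorem pol_self {v : V7} (hv : Q7 v = -1) : polar (⇑Q7) v v = 1 := by rw [polar_self, hv, neg_neg]

omit hψ in
theorem IsT.self {v : V7} {t : L7} (h : IsT ψ v t) (hv : Q7 v = -1) : lin (ψ t) v = v := by
  rw [h v, pol_self hv, one_smul]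
  have h3 : (3 : K3) • v = 0 := by rw [three0, zero_smul]
  have h4 : -v - v = v - (3 : K3) • v := by module
  rw [h4, h3, sub_zero]

theorem IsT.unique {v : V7} {t s : L7} (h : IsT ψ v t) (h' : IsT ψ v s) : t = s :=
  hψ.ext fun y => by rw [h y, h' y]

omit hψ in
theorem IsT.neg {v : V7} {t : L7} (h : IsT ψ v t) : IsT ψ (-v) t := by
  intro y
  rw [h y, polar_neg_right, smul_neg, neg_smul, neg_neg]

theorem IsT.conj {v : V7} {t : L7} (h : IsT ψ v t) (g : L7) : IsT ψ (lin (ψ g) v) (g * t * g⁻¹) := by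
  intro y
  rw [hψ.mul, hψ.mul, h, map_sub, map_neg, hψ.inv_right, map_smul]
  congr 2
  rw [← hψ.pol g, hψ.inv_right]

theorem IsT.sq {v : V7} (hv : Q7 v = -1) {t : L7} (h : IsT ψ v t) : t * t = 1 := by
  apply hψ.ext
  intro y
  rw [hψ.mul, hψ.one, h y, map_sub, map_neg, map_smul, h.self hv, h y]
  module

omit hψ in
theorem IsT.eq_or {v w : V7} (hv : Q7 v = -1) {t : L7} (h : IsT ψ v t) (h' : IsT ψ w t) : v = w ∨ v = -w := by
  have h1 := h.self hv
  rw [h' v] at h1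
  have h3 : (3 : K3) • v = 0 := by rw [three0, zero_smul]
  have h2 : v = polar (⇑Q7) v w • w := by
    have h4 : v - polar (⇑Q7) v w • w = (3 : K3) • v + (-v - polar (⇑Q7) v w • w - v) := by module
    rw [← sub_eq_zero, h4, h3, h1, sub_self, add_zero]
  have h5 : ∀ a : K3, a = 0 ∨ a = 1 ∨ a = -1 := by decide
  rcases h5 (polar (⇑Q7) v w) with h6 | h6 | h6
  · rw [h6, zero_smul] at h2
    rw [h2, QuadraticMap.map_zero] at hv
    exact absurd hv (by decide)
  · rw [h6, one_smul] at h2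
    exact Or.inl h2
  · rw [h6, neg_smul, one_smul] at h2
    exact Or.inr h2

theorem IsT.comm_of {v w : V7} {t s : L7} (h : IsT ψ v t) (h' : IsT ψ w s)
    (h0 : polar (⇑Q7) v w = 0) : t * s = s * t := by
  have h1 := h'.conj hψ t
  have h2 : lin (ψ t) w = -w := by rw [h w, polar_comm, h0, zero_smul, sub_zero]
  rw [h2] at h1
  have h3 := h1.unique hψ h'.neg
  exact mul_inv_eq_iff_eq_mul.1 h3

theorem IsT.of_comm {v w : V7} (hv : Q7 v = -1) (hw : Q7 w = -1) {t s : L7} (h : IsT ψ v t) (h' : IsT ψ w s)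
    (hc : t * s = s * t) : polar (⇑Q7) v w = 0 ∨ v = w ∨ v = -w := by
  have h1 := h'.conj hψ t
  rw [hc, mul_inv_cancel_right] at h1
  have hw0 : w ≠ 0 := by
    rintro rfl
    rw [QuadraticMap.map_zero] at hw
    exact absurd hw (by decide)
  have hv0 : v ≠ 0 := by
    rintro rfl
    rw [QuadraticMap.map_zero] at hv
    exact absurd hv (by decide)
  have h3 : (3 : K3) • w = 0 := by rw [three0, zero_smul]
  rcases h'.eq_or hw h1 with h2 | h2
  · -- `w` is fixed
    rw [h w] at h2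
    have h4 : w = polar (⇑Q7) w v • v := by
      have h5 : w - polar (⇑Q7) w v • v = (3 : K3) • w + (-w - polar (⇑Q7) w v • v) - w := by module
      rw [← sub_eq_zero, h5, h3, ← h2, zero_add, sub_self]
    have h5 : ∀ a : K3, a = 0 ∨ a = 1 ∨ a = -1 := by decide
    right
    rcases h5 (polar (⇑Q7) w v) with h6 | h6 | h6
    · rw [h6, zero_smul] at h4
      exact absurd h4 hw0
    · rw [h6, one_smul] at h4
      exact Or.inl h4.symm
    · rw [h6, neg_smul, one_smul] at h4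
      right
      rw [h4, neg_neg]
  · left
    rw [h w] at h2
    have h4 : polar (⇑Q7) w v • v = 0 := by
      have h5 : polar (⇑Q7) w v • v = w + (-(-w - polar (⇑Q7) w v • v)) - w - w := by module
      rw [h5, ← h2]
      module
    rw [polar_comm]
    exact (smul_eq_zero.1 h4).resolve_right hv0

/-- **the 3-transposition property** -/
theorem IsT.three {v w : V7} (hv : Q7 v = -1) (hw : Q7 w = -1) {t s : L7} (h : IsT ψ v t) (h' : IsT ψ w s) :
    (t * s) ^ 2 = 1 ∨ (t * s) ^ 3 = 1 := by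
  have htt := h.sq hψ hv
  have hss := h'.sq hψ hw
  by_cases h0 : polar (⇑Q7) v w = 0
  · left
    have hc := h.comm_of hψ h' h0
    calc (t * s) ^ 2 = t * (s * t) * s := by rw [pow_two]; group
      _ = (t * t) * (s * s) := by rw [← hc]; group
      _ = 1 := by rw [htt, hss, one_mul]
  · right
    have hb : polar (⇑Q7) v w * polar (⇑Q7) v w = 1 := by
      revert h0
      generalize polar (⇑Q7) v w = b
      revert b
      decide
    have h1 := h'.conj hψ t
    have h2 := h.conj hψ s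
    have e1 : lin (ψ t) w = -w - polar (⇑Q7) v w • v := by rw [h w, polar_comm]
    have e2 : lin (ψ s) v = polar (⇑Q7) v w • (-w - polar (⇑Q7) v w • v) := by
      rw [h' v, smul_sub, smul_smul, hb]
      module
    have h5 : ∀ a : K3, a = 0 ∨ a = 1 ∨ a = -1 := by decide
    have h3 : IsT ψ (-w - polar (⇑Q7) v w • v) (s * t * s⁻¹) := by
      rw [e2] at h2
      rcases h5 (polar (⇑Q7) v w) with h6 | h6 | h6
      · exact absurd h6 h0
      · rw [h6, one_smul] at h2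
        rw [h6]
        exact h2
      · rw [h6, neg_smul, one_smul] at h2
        have h7 := h2.neg
        rw [neg_neg] at h7
        rw [h6]
        exact h7
    rw [e1] at h1
    have h4 := h1.unique hψ h3
    have ht : t⁻¹ = t := inv_eq_of_mul_eq_one_left htt
    have hs : s⁻¹ = s := inv_eq_of_mul_eq_one_left hss
    rw [ht, hs] at h4
    calc (t * s) ^ 3 = (t * s * t) * (s * t * s) := by rw [pow_succ, pow_two]; group
      _ = (t * s * t) * (t * s * t) := by rw [h4]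
      _ = t * (s * (t * t) * s) * t := by group
      _ = 1 := by rw [htt, mul_one, hss, mul_one, htt]

/-- existence -/
theorem Emb.exists_T {v : V7} (hv : Q7 v = -1) : ∃ t, IsT ψ v t := by
  obtain ⟨a1, a2, a3, -⟩ := patI
  have hpp1 : polar (⇑Q7) p1 p1 = 1 := pol_self a3
  have key : ∀ w : V7, Q7 w = -1 → w ≠ v → w ≠ -v → ∃ t, IsT ψ v t := by
    intro w h1 h2 h3
    obtain ⟨J, Z, b1, -, b3, -⟩ := exists_h hv h1 h2 h3
    obtain ⟨t, ht⟩ := hψ.exists_sq b1
    exact ⟨t, fun y => by rw [ht, b3]⟩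
  by_cases h1 : p1 = v
  · subst h1
    refine key vI a2 (fun h => ?_) (fun h => ?_)
    · rw [h, hpp1] at a1
      exact absurd a1 (by decide)
    · rw [h, polar_neg_left, hpp1] at a1
      exact absurd a1 (by decide)
  · by_cases h2 : p1 = -v
    · refine key vI a2 (fun h => ?_) (fun h => ?_)
      · rw [h2, polar_neg_right, h, pol_self hv] at a1
        exact absurd a1 (by decide)
      · rw [h2, polar_neg_right, h, polar_neg_left, pol_self hv] at a1
        exact absurd a1 (by decide)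
    · exact key p1 a3 h1 h2

end emb

end Cfsg.Agent.H36.Spr7.Three

/-!
# Automorphisms of `Ω₇(3)` and the transpositions (helper36)
-/

namespace Cfsg.Agent.H36.Spr7.Three

open Module QuadraticMap Cfsg Cfsg.Geo Cfsg.Agent.LieClassical.OrthCore Cfsg.Agent.H955 Cfsg.Agent.H954.TSing
open Cfsg.Agent.LieClassical.OmegaReindex
open Cfsg.Agent.H884.El Cfsg.Agent.H833.RS.O73
open Cfsg.Agent.H951 (fx cm Inv)
open scoped MatrixGroups Matrix

/-- the multiplier of a similarity is one -/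
theorem mult_one {T : V7 →ₗ[K3] V7} {μ : K3} (hμ : μ ≠ 0) (hT : ∀ v, Q7 (T v) = μ * Q7 v) : μ = 1 := by
  have hpol : ∀ x y, polar (⇑Q7) (T x) (T y) = μ * polar (⇑Q7) x y := by
    intro x y
    simp only [polar, ← map_add, hT]
    ring
  have h1 : (polarBilin Q7).compl₁₂ T T = μ • polarBilin Q7 := by
    refine LinearMap.ext fun x => LinearMap.ext fun y => ?_
    exact hpol x y
  have h2 := congrArg (fun f => (LinearMap.toMatrix₂' K3 f).det) h1
  change (LinearMap.toMatrix₂' K3 ((polarBilin Q7).compl₁₂ T T)).det =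
    (LinearMap.toMatrix₂' K3 (μ • polarBilin Q7)).det at h2
  rw [LinearMap.toMatrix₂'_compl₁₂, map_smul, Matrix.det_mul, Matrix.det_mul, Matrix.det_transpose, Matrix.det_smul,
    H884.El.card_odd] at h2
  have h3 : (LinearMap.toMatrix₂' K3 (polarBilin Q7)).det ≠ 0 := by
    have h4 := (quadOdd_nondegenerate (F := K3) (m := 3) two_ne3).1
    exact (LinearMap.separatingLeft_iff_det_ne_zero (Pi.basisFun K3 I7)).1 h4
  have h4 : (LinearMap.toMatrix' T).det * (LinearMap.toMatrix' T).det = μ ^ 7 := by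
    apply mul_right_cancel₀ h3
    rw [← h2]
    ring
  have key : ∀ d m : K3, m ≠ 0 → d * d = m ^ 7 → m = 1 := by decide
  exact key _ μ hμ h4

section emb

variable {ψ : L7 →* GL I7 K3} (hψ : Emb ψ)

include hψ

/-- automorphisms act as isometries -/
theorem Emb.aut (α : MulAut L7) : ∃ T : V7 →ₗ[K3] V7, Function.Surjective T ∧ (∀ v, Q7 (T v) = Q7 v) ∧
    ∀ (x : L7) (v : V7), lin (ψ (α x)) (T v) = T (lin (ψ x) v) := by
  obtain ⟨σ, μ, T, hμ, hs, hQ, hT⟩ := H265.Der.semiAut_odd (F := K3) (m := 3) le_rfl two_ne3 α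
  have hσ : ∀ c, σ c = c := by
    intro c
    have h : (σ : K3 →+* K3) = RingHom.id K3 := Subsingleton.elim _ _
    exact congrArg (fun f => f c) h
  let T' : V7 →ₗ[K3] V7 := { toFun := T, map_add' := map_add T, map_smul' := fun c v => (by
    rw [hs, hσ]; rfl) }
  have hT' : ∀ v, T' v = T v := fun _ => rfl
  have hμ1 : μ = 1 := mult_one (T := T') hμ fun v => by rw [hT', hQ, hσ]
  refine ⟨T', T.surjective, fun v => by rw [hT', hQ, hσ, hμ1, one_mul], fun x v => ?_⟩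
  obtain ⟨g, rfl⟩ := QuotientGroup.mk_surjective x
  obtain ⟨g', h1, h2⟩ := hT g
  change lin (ψ (α (QuotientGroup.mk g))) (T v) = T (lin (ψ (QuotientGroup.mk g)) v)
  have h3 : α (QuotientGroup.mk g) = QuotientGroup.mk g' := h2
  rw [h3, hψ.mk', hψ.mk', lin, lin, Matrix.toLin'_apply, Matrix.toLin'_apply]
  exact h1 v

theorem IsT.map {α : MulAut L7} {T : V7 →ₗ[K3] V7} (hs : Function.Surjective T) (hQ : ∀ v, Q7 (T v) = Q7 v)
    (hT : ∀ (x : L7) (v : V7), lin (ψ (α x)) (T v) = T (lin (ψ x) v)) {v : V7} {t : L7} (h : IsT ψ v t) :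
    IsT ψ (T v) (α t) := by
  intro y
  obtain ⟨y, rfl⟩ := hs y
  rw [hT, h y, map_sub, map_neg, map_smul]
  congr 2
  simp only [polar, ← map_add, hQ]

/-- the transpositions generate -/
theorem Emb.closure_T (hsim : IsSimpleGroup L7) :
    Subgroup.closure {t : L7 | ∃ v, Q7 v = -1 ∧ IsT ψ v t} = ⊤ := by
  have hn : (Subgroup.closure {t : L7 | ∃ v, Q7 v = -1 ∧ IsT ψ v t}).Normal := by
    refine ⟨fun n hn g => ?_⟩
    induction hn using Subgroup.closure_induction with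
    | mem t ht =>
      obtain ⟨v, hv, hs⟩ := ht
      exact Subgroup.subset_closure ⟨lin (ψ g) v, by rw [hψ.Q, hv], hs.conj hψ g⟩
    | one =>
      rw [mul_one, mul_inv_cancel]
      exact one_mem _
    | mul x y _ _ hx hy =>
      have e : g * (x * y) * g⁻¹ = (g * x * g⁻¹) * (g * y * g⁻¹) := by group
      rw [e]
      exact mul_mem hx hy
    | inv x _ hx =>
      have e : g * x⁻¹ * g⁻¹ = (g * x * g⁻¹)⁻¹ := by group
      rw [e]
      exact inv_mem hx
  rcases hn.eq_bot_or_eq_top with h | h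
  · exfalso
    obtain ⟨-, -, a3, -⟩ := patI
    obtain ⟨t, ht⟩ := hψ.exists_T a3
    have h1 : t ∈ Subgroup.closure {t : L7 | ∃ v, Q7 v = -1 ∧ IsT ψ v t} := Subgroup.subset_closure ⟨p1, a3, ht⟩
    rw [h, Subgroup.mem_bot] at h1
    subst h1
    obtain ⟨a1, a2, -, -⟩ := patI
    have h2 := ht vI
    rw [hψ.one, a1, zero_smul, sub_zero] at h2
    have h3 := congrFun h2 (.inr (.inl 2))
    revert h3
    decide +kernel
  · exact h

/-- a nontrivial automorphism moves a transposition -/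
theorem Emb.exists_moved (hsim : IsSimpleGroup L7) {α : MulAut L7} (hα : α ≠ 1) :
    ∃ v t, Q7 v = -1 ∧ IsT ψ v t ∧ α t ≠ t := by
  by_contra hcon
  push Not at hcon
  apply hα
  have h1 : (α : L7 →* L7) = MonoidHom.id L7 := by
    refine MonoidHom.eq_of_eqOn_dense (hψ.closure_T hsim) ?_
    rintro t ⟨v, hv, ht⟩
    exact hcon v t hv ht
  ext x
  exact congrArg (fun f => f x) h1

/-- **the elements** -/
theorem Emb.exists_elts {p v : V7} (hp : Q7 p = -1) (hv : Q7 v = -1) (h1 : v ≠ p) (h2 : v ≠ -p) :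
    ∃ t z : L7, IsT ψ p t ∧ orderOf z = 7 ∧ lin (ψ z) p = p ∧ t * z = z * t ∧
      ((polar (⇑Q7) v p = 0 ∧ polar (⇑Q7) v (lin (ψ (z ^ 1)) v) ≠ 0 ∧ polar (⇑Q7) v (lin (ψ (z ^ 2)) v) ≠ 0 ∧
          polar (⇑Q7) v (lin (ψ (z ^ 3)) v) ≠ 0) ∨
        (polar (⇑Q7) v p ≠ 0 ∧ polar (⇑Q7) v (lin (ψ (z ^ 3)) v) = 0)) := by
  obtain ⟨J, Z, b1, b2, b3, b4, b5, b6, b7⟩ := exists_h hp hv h1 h2
  obtain ⟨t, ht⟩ := hψ.exists_sq b1
  obtain ⟨z, hz⟩ := hψ.exists_odd b2 b4
  have hT : IsT ψ p t := fun y => by rw [ht, b3]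
  have hz1 : z ≠ 1 := by
    rintro rfl
    apply b5
    ext1 y
    rw [← hz, hψ.one]
    rfl
  have hzk : ∀ n y, lin (ψ (z ^ n)) y = (Z ^ n) y := by
    intro n
    induction n with
    | zero => intro y; rw [pow_zero, hψ.one]; rfl
    | succ n ih => intro y; rw [hψ.pow, ih, hz, pow_succ']; rfl
  have hz7 : z ^ 7 = 1 := by
    apply hψ.ext
    intro y
    rw [hzk, b4, hψ.one]
  have : Fact (Nat.Prime 7) := ⟨by norm_num⟩
  refine ⟨t, z, hT, orderOf_eq_prime hz7 hz1, by rw [hz, b6], ?_, ?_⟩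
  · have h3 := hT.conj hψ z
    rw [hz, b6] at h3
    have h4 := h3.unique hψ hT
    exact (mul_inv_eq_iff_eq_mul.1 h4).symm
  · rcases b7 with ⟨c1, c2, c3, c4⟩ | ⟨c1, c2⟩
    · refine Or.inl ⟨c1, ?_, ?_, ?_⟩
      · rw [hzk]; exact c2
      · rw [hzk]; exact c3
      · rw [hzk]; exact c4
    · refine Or.inr ⟨c1, ?_⟩
      rw [hzk]; exact c2

end emb

end Cfsg.Agent.H36.Spr7.Three

/-!
# The maximal subgroups of `Ω₇(3)` containing an element of order 14 (helper36)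
-/

namespace Cfsg.Agent.H36.Spr7.Three

open Module QuadraticMap Cfsg Cfsg.Geo Cfsg.Agent.LieClassical.OrthCore Cfsg.Agent.H955 Cfsg.Agent.H954.TSing
open Cfsg.Agent.LieClassical.OmegaReindex
open Cfsg.Agent.H884.El Cfsg.Agent.H833.RS.O73
open Cfsg.Agent.H951 (fx cm Inv)
open scoped MatrixGroups Matrix

/-! ### a numerical lemma -/

/-- a Sylow 13-subgroup -/
theorem sylow13 {G : Type} [Group G] [Finite G] [Fact (Nat.Prime 13)] (h2 : ¬ 13 ^ 2 ∣ Nat.card G) {R : Subgroup G}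
    (hR : Nat.card R = 13) : ∃ m : ℕ, m % 13 = 1 ∧ Nat.card (Subgroup.normalizer (R : Set G)) * m = Nat.card G ∧
      m = Nat.card (Sylow 13 G) := by
  have hidx : ¬ 13 ∣ R.index := by
    intro h
    apply h2
    rw [← R.card_mul_index, hR, pow_two]
    exact Nat.mul_dvd_mul_left _ h
  let P : Sylow 13 G := IsPGroup.toSylow (P := R) (IsPGroup.of_card (n := 1) (by rw [hR, pow_one])) hidx
  refine ⟨Nat.card (Sylow 13 G), card_sylow_modEq_one 13 G, ?_, rfl⟩
  rw [P.card_eq_index_normalizer]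
  exact Subgroup.card_mul_index _

theorem no_g2_two {G : Type} [Group G] [Finite G] (hG : Nat.card G = 4585351680)
    (hR : ∃ R : Subgroup G, Nat.card R = 13 ∧ Subgroup.centralizer (R : Set G) = R) {M : Subgroup G}
    (hM : Nat.card M = 8491392) : False := by
  have : Fact (Nat.Prime 13) := ⟨by norm_num⟩
  obtain ⟨R, hR1, hR2⟩ := hR
  -- the normalizer of `R`
  obtain ⟨n, hn1, hn2, hn3⟩ := sylow13 (by rw [hG]; norm_num) hR1
  have hcyc : IsCyclic R := isCyclic_of_prime_card hR1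
  have hker : Nat.card (R.normalizerMonoidHom).ker = 13 := by
    rw [Subgroup.normalizerMonoidHom_ker, hR2, ← hR1]
    exact Nat.card_congr (Subgroup.subgroupOfEquivOfLe Subgroup.le_normalizer).toEquiv
  have hrange : Nat.card (R.normalizerMonoidHom).range ∣ 12 := by
    have h1 := Subgroup.card_subgroup_dvd_card (R.normalizerMonoidHom).range
    rwa [IsCyclic.card_mulAut, hR1, Nat.totient_prime (by norm_num)] at h1
  have hcard : Nat.card (Subgroup.normalizer (R : Set G)) = 13 * Nat.card (R.normalizerMonoidHom).range := by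
    rw [← hker, ← Subgroup.index_ker, Subgroup.card_mul_index]
  obtain ⟨k, hk⟩ : ∃ k, k = Nat.card (R.normalizerMonoidHom).range := ⟨_, rfl⟩
  rw [← hk] at hrange hcard
  have hk6 : k = 6 := by
    rw [hcard, hG] at hn2
    have h1 : k * n = 352719360 := by
      have : 13 * (k * n) = 13 * 352719360 := by rw [← mul_assoc, hn2]
      omega
    have h2 : k ≤ 12 := Nat.le_of_dvd (by norm_num) hrange
    interval_cases k <;> omega
  rw [hk6] at hcard
  -- in `M`
  obtain ⟨x, hx⟩ := exists_prime_orderOf_dvd_card' (G := M) 13 (by rw [hM]; norm_num)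
  have hZ : Nat.card (Subgroup.zpowers x) = 13 := by rw [Nat.card_zpowers, hx]
  have hZ' : Nat.card (Subgroup.zpowers (x : G)) = 13 := by rw [Nat.card_zpowers, Subgroup.orderOf_coe, hx]
  obtain ⟨m, hm1, hm2, -⟩ := sylow13 (by rw [hM]; norm_num) hZ
  obtain ⟨n', hn1', hn2', hn3'⟩ := sylow13 (by rw [hG]; norm_num) hZ'
  have hNZ' : Nat.card (Subgroup.normalizer ((Subgroup.zpowers (x : G) : Subgroup G) : Set G)) = 78 := by
    have h1 : n' = n := by rw [hn3, hn3']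
    rw [h1] at hn2'
    rw [hcard] at hn2
    have hn0 : 0 < n := by omega
    exact Nat.eq_of_mul_eq_mul_right hn0 (by rw [hn2', ← hn2])
  have hle : (Subgroup.normalizer ((Subgroup.zpowers x : Subgroup M) : Set M)).map M.subtype ≤
      Subgroup.normalizer ((Subgroup.zpowers (x : G) : Subgroup G) : Set G) := by
    rintro _ ⟨g, hg, rfl⟩
    have hmap : ∀ y : M, y ∈ Subgroup.zpowers x ↔ (y : G) ∈ Subgroup.zpowers (x : G) := by
      intro y
      rw [Subgroup.mem_zpowers_iff, Subgroup.mem_zpowers_iff]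
      refine exists_congr fun k => ?_
      rw [← Subgroup.coe_zpow, Subtype.ext_iff]
    rw [Subgroup.mem_normalizer_iff]
    intro y
    have hx1 : Subgroup.zpowers (x : G) ≤ M := by
      rw [Subgroup.zpowers_le]
      exact x.2
    constructor
    · intro hy
      have h1 := (Subgroup.mem_normalizer_iff.1 hg ⟨y, hx1 hy⟩).1 ((hmap _).2 hy)
      exact (hmap _).1 h1
    · intro hy
      have hyM : y ∈ M := by
        have h2 := hx1 hy
        have h3 : y = (g : G)⁻¹ * ((g : G) * y * (g : G)⁻¹) * (g : G) := by group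
        rw [h3]
        exact mul_mem (mul_mem (inv_mem g.2) h2) g.2
      have h1 := (Subgroup.mem_normalizer_iff.1 hg ⟨y, hyM⟩).2 ((hmap _).2 hy)
      exact (hmap _).1 h1
  have hdvd : Nat.card (Subgroup.normalizer ((Subgroup.zpowers x : Subgroup M) : Set M)) ∣ 78 := by
    rw [← hNZ', Nat.card_congr (Subgroup.equivMapOfInjective _ M.subtype M.subtype_injective).toEquiv]
    exact Subgroup.card_dvd_of_le hle
  have h13 : 13 ∣ Nat.card (Subgroup.normalizer ((Subgroup.zpowers x : Subgroup M) : Set M)) := by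
    rw [← hZ]
    exact Subgroup.card_dvd_of_le Subgroup.le_normalizer
  obtain ⟨j, hj⟩ := h13
  rw [hj] at hdvd hm2
  have hj6 : j ∣ 6 := by
    have : 13 * j ∣ 13 * 6 := hdvd
    exact Nat.dvd_of_mul_dvd_mul_left (by norm_num) this
  have hjm : j * m = 653184 := by
    rw [hM] at hm2
    have : 13 * (j * m) = 13 * 653184 := by rw [← mul_assoc, hm2]
    omega
  have hj2 : j ≤ 6 := Nat.le_of_dvd (by norm_num) hj6
  interval_cases j <;> omega

/-! ### the embedding in the symmetric group -/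

theorem exists_phi {M : Type} [Group M] {S : Subgroup M} [S.Normal] (hC : Subgroup.centralizer (S : Set M) = ⊥)
    (e : S ≃* alternatingGroup (Fin 9)) : ∃ φ : M →* Equiv.Perm (Fin 9), Function.Injective φ ∧
      ∀ σ ∈ alternatingGroup (Fin 9), ∃ m, φ m = σ := by
  let β : Equiv.Perm (Fin 9) ≃* MulAut (alternatingGroup (Fin 9)) :=
    MulEquiv.ofBijective _ (Cfsg.Agent.S2119.result 9 (by norm_num) (by norm_num))
  have hβ : ∀ σ, β σ = MulAut.conjNormal σ := fun _ => rfl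
  have hinj : Function.Injective (MulAut.conjNormal : M →* MulAut S) := by
    rw [← MonoidHom.ker_eq_bot_iff, eq_bot_iff]
    intro x hx
    rw [← hC, Subgroup.mem_centralizer_iff]
    intro y hy
    have h1 := DFunLike.congr_fun ((MonoidHom.mem_ker).1 hx) ⟨y, hy⟩
    have h2 := congrArg Subtype.val h1
    rw [MulAut.conjNormal_apply, MulAut.one_apply] at h2
    exact (mul_inv_eq_iff_eq_mul.1 h2).symm
  refine ⟨(β.symm.toMonoidHom.comp (MulAut.congr e).toMonoidHom).comp MulAut.conjNormal,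
    (β.symm.injective.comp (MulAut.congr e).injective).comp hinj, fun σ hσ => ⟨e.symm ⟨σ, hσ⟩, ?_⟩⟩
  change β.symm (MulAut.congr e (MulAut.conjNormal (e.symm ⟨σ, hσ⟩ : M))) = σ
  rw [MulEquiv.symm_apply_eq, hβ]
  ext1 y
  apply Subtype.ext
  rw [MulAut.conjNormal_apply]
  have h1 : MulAut.conjNormal (e.symm ⟨σ, hσ⟩ : M) (e.symm y) =
      e.symm ⟨σ, hσ⟩ * e.symm y * (e.symm ⟨σ, hσ⟩)⁻¹ := by
    apply Subtype.ext
    rw [MulAut.conjNormal_apply]
    rfl
  change ((e (MulAut.conjNormal (e.symm ⟨σ, hσ⟩ : M) (e.symm y)) : alternatingGroup (Fin 9)) :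
    Equiv.Perm (Fin 9)) = σ * y * σ⁻¹
  rw [h1, map_mul, map_mul, map_inv, MulEquiv.apply_symm_apply, MulEquiv.apply_symm_apply]
  rfl

/-- a permutation of seven points of order divisible by seven has no fixed point -/
theorem perm_seven_ne {σ : Equiv.Perm (Fin 7)} (h : orderOf σ = 7) (i : Fin 7) : σ i ≠ i := by
  have h7 : (Nat.Prime 7) := by norm_num
  have hs : (7 : ℕ) ∈ σ.cycleType := by
    have h1 := Equiv.Perm.cycleType_prime_order (σ := σ) (by rw [h]; exact h7)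
    obtain ⟨n, hn⟩ := h1
    rw [h] at hn
    rw [hn]
    exact Multiset.mem_replicate.2 ⟨by omega, rfl⟩
  have h1 := Equiv.Perm.le_card_support_of_mem_cycleType hs
  have h2 : σ.support = Finset.univ := by
    rw [← Finset.card_eq_iff_eq_univ, Fintype.card_fin]
    have := σ.support.card_le_univ
    rw [Fintype.card_fin] at this
    omega
  have h3 : i ∈ σ.support := by rw [h2]; exact Finset.mem_univ _
  exact Equiv.Perm.mem_support.1 h3

/-- the residual class -/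
theorem coat_res {F : Type} [Field F] [Fintype F] (card3 : Fintype.card F = 3) (hres : Res7 F)
    {M : Subgroup (POmega F ⇑(quadOdd 3 F))}
    (hmaxH : IsMaximalIn (omegaGL (quadFormOdd 3 F)) (pre (⇑(quadOdd 3 F)) M))
    (h6 : InOrthogonalResidualClass (pre (⇑(quadOdd 3 F)) M)) {t z : POmega F ⇑(quadOdd 3 F)} (ht : t ∈ M) (hzM : z ∈ M) (hz : orderOf z = 7)
    (hc : t * z = z * t) (hxo : orderOf (t * z) = 14) :
    (∀ g ∈ M, g * t = t * g) ∨ ∃ φ : M →* Equiv.Perm (Fin 9), Function.Injective φ ∧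
      ∀ σ ∈ alternatingGroup (Fin 9), ∃ m, φ m = σ := by
  have h2 := two_ne card3
  have hfin : Finite (POmega F ⇑(quadOdd 3 F)) := Quotient.finite _
  have hch : CharP F 3 := charP_of_card_eq_prime_pow (p := 3) (f := 1) (by rw [card3, pow_one])
  obtain ⟨P, hP, hcase⟩ := hres _ hmaxH h6
  obtain ⟨S, hSn, hSs, hna, hC, ⟨e⟩⟩ := H264.FKS.exists_res_omega (quadOdd_nondegenerate h2)
      (by rw [H884.El.card_odd]; norm_num) (quadOdd_isotropic (by norm_num)) hP
  have hxM : orderOf (⟨t * z, mul_mem ht hzM⟩ : M) = 14 := by rw [Subgroup.orderOf_mk, hxo]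
  rcases hcase with ⟨⟨e'⟩, -⟩ | ⟨⟨e'⟩, -⟩ | ⟨⟨e'⟩⟩
  · right
    exact exists_phi hC (e.trans e')
  · exfalso
    have hc2 := card_psp32 (F := ZMod 2) (ZMod.card 2)
    have h1 := H264.FKS.dvd_aut S hC
    have hcS : Nat.card S = 1451520 := by rw [Nat.card_congr (e.trans e').toEquiv, hc2]
    rw [Nat.card_congr (MulAut.congr (e.trans e')).toEquiv, aut_psp32 (ZMod.card 2), ← hcS,
      ← S.card_mul_index] at h1
    have h8 : S.index ∣ 1 := by
      refine Nat.dvd_of_mul_dvd_mul_left (Nat.card_pos (α := S)) ?_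
      rwa [mul_one]
    refine ne_of_index (S := S) (n := 14) (fun g => ?_) (by rw [Nat.dvd_one.1 h8]; exact Nat.coprime_one_right _)
      _ hxM
    rw [← MulEquiv.orderOf_eq (e.trans e')]
    exact psp32_ne (ZMod.card 2) _
  · exfalso
    obtain ⟨e''⟩ := H638.G2Iso.equiv (F := F)
    have ho := Cfsg.Agent.S2121.result 3 1 (F := F) (by rw [card3]; norm_num) (by norm_num)
    have hidx := index_dvd_out hna hC
    rw [H934.OutB.card_out_congr ((e.trans e').trans e''), ho, if_pos rfl] at hidx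
    have hcS : Nat.card S = 4245696 := by
      rw [Nat.card_congr ((e.trans e').trans e'').toEquiv, Cfsg.Agent.S1059.result (F := F) (q := 3) card3]
      norm_num
    have hcM : Nat.card M ≠ 8491392 := by
      intro h
      refine no_g2_two (G := POmega F ⇑(quadOdd 3 F)) (card_T card3) ?_ h
      have h7 := Cfsg.Agent.H134.OmegaThree.omega_odd_three (F := F) card3
      rw [← coe_quadOdd] at h7
      exact h7
    have hi1 : S.index = 1 := by
      have h7 : S.index ≤ 2 := Nat.le_of_dvd (by norm_num) hidx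
      have h8 : S.index ≠ 0 := S.index_ne_zero_of_finite
      have h9 : S.index ≠ 2 := by
        intro h
        apply hcM
        rw [← S.card_mul_index, h, hcS]
      omega
    have hS : ∀ m : M, m ∈ S := by
      intro m
      rw [Subgroup.index_eq_one.1 hi1]
      trivial
    have h7 := orderOf_le6 (F := F) ((e.trans e').trans e'') (r := 7) (by
        have := pp7 (F := F) card3
        rwa [Nat.card_eq_fintype_card] at this)
      (t := ⟨⟨t * z, mul_mem ht hzM⟩, hS _⟩) (y := ⟨⟨z, hzM⟩, hS _⟩) (by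
        rw [Subgroup.orderOf_mk, Subgroup.orderOf_mk, hz]) (by
        apply Subtype.ext
        apply Subtype.ext
        show t * z * z = z * (t * z)
        rw [← mul_assoc, ← hc])
    rw [Subgroup.orderOf_mk, hxM, card3] at h7
    norm_num at h7

section emb

variable {ψ : L7 →* GL I7 K3} (hψ : Emb ψ)

include hψ

/-- frames -/
theorem no_frame {p : V7} (hp : Q7 p = -1) {t z : L7} (hT : IsT ψ p t) (hz : orderOf z = 7)
    (hzp : lin (ψ z) p = p) (hc : t * z = z * t) {D : Fin 7 → Submodule K3 V7}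
    (hD : IsNondegenerateMDecomposition (polar (⇑Q7)) 1 D) {σ : Equiv.Perm (Fin 7)}
    (hσ : ∀ i, (D i).map (lin (ψ (t * z))) = D (σ i)) : False := by
  have htt := hT.sq hψ hp
  have h5 := frame_pow hD (hψ.Q (t * z)) hσ
  have hcm : Commute t z := hc
  have h7 : (t * z) ^ (orderOf σ * 2) = 1 := by
    apply hψ.ext
    intro y
    rw [hψ.one, map_pow, lin, H251.GeoCard.toLin_pow]
    have h6 : (lin (ψ (t * z))) ^ (orderOf σ * 2) = 1 := h5
    exact congrArg (fun f => f y) h6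
  have h8 : z ^ (orderOf σ * 2) = 1 := by
    have h9 : t ^ (orderOf σ * 2) = 1 := by rw [mul_comm, pow_mul, pow_two, htt, one_pow]
    rw [hcm.mul_pow, h9, one_mul] at h7
    exact h7
  have h9 : 7 ∣ orderOf σ := by
    have h10 := orderOf_dvd_of_pow_eq_one h8
    rw [hz] at h10
    exact (show Nat.Coprime 7 2 by norm_num).dvd_of_dvd_mul_right h10
  have hσ7 := perm_seven h9
  have hz7 : z ^ 7 = 1 := by rw [← hz]; exact pow_orderOf_eq_one z
  have ht7 : t ^ 7 = t := by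
    rw [show 7 = 2 * 3 + 1 by norm_num, pow_succ, pow_mul, pow_two, htt, one_pow, one_mul]
  have hx7 : (t * z) ^ 7 = t := by rw [hcm.mul_pow, ht7, hz7, mul_one]
  have hDt : ∀ i, (D i).map (lin (ψ t)) = D i := by
    intro i
    have h10 := map_pow_perm hσ 7 i
    have h11 : σ ^ 7 = 1 := by
      have := pow_orderOf_eq_one σ
      rwa [hσ7] at this
    have h12 : (lin (ψ (t * z))) ^ 7 = lin (ψ t) := by
      rw [lin, ← H251.GeoCard.toLin_pow, ← map_pow, hx7]
    rw [h11, h12] at h10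
    exact h10
  have hpp := pol_self hp
  have key : ∃ i, ∃ d ∈ D i, polar (⇑Q7) d p ≠ 0 := by
    by_contra hcon
    push Not at hcon
    have h10 : (⊤ : Submodule K3 V7) ≤ LinearMap.ker ((polarBilin Q7).flip p) := by
      rw [← hD.decomp.iSup_eq_top]
      exact iSup_le fun i v hv => hcon i v hv
    have h11 := h10 (Submodule.mem_top (x := p))
    have h12 : polar (⇑Q7) p p = 0 := h11
    rw [hpp] at h12
    exact absurd h12 (by decide)
  obtain ⟨i, d, hd, hdp⟩ := key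
  have hd0 : d ≠ 0 := by
    rintro rfl
    rw [polar_zero_left] at hdp
    exact hdp rfl
  have hspan : Submodule.span K3 {d} = D i := by
    refine Submodule.eq_of_le_of_finrank_eq ((Submodule.span_singleton_le_iff_mem _ _).2 hd) ?_
    rw [hD.decomp.finrank_eq, finrank_span_singleton hd0]
  have htd : lin (ψ t) d ∈ D i := by
    rw [← hDt i]
    exact ⟨d, hd, rfl⟩
  rw [← hspan] at htd
  obtain ⟨c, hc'⟩ := Submodule.mem_span_singleton.1 htd
  -- `p ∈ D i`
  have hpD : p ∈ D i := by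
    rw [hT d] at hc'
    have h10 : polar (⇑Q7) d p • p = (-1 - c) • d := by
      rw [sub_smul, hc']
      module
    have h11 : p = (polar (⇑Q7) d p)⁻¹ • ((-1 - c) • d) := by
      rw [← h10, smul_smul, inv_mul_cancel₀ hdp, one_smul]
    rw [h11, ← hspan]
    exact Submodule.smul_mem _ _ (Submodule.smul_mem _ _ (Submodule.mem_span_singleton_self d))
  have hp0 : p ≠ 0 := by
    rintro rfl
    rw [QuadraticMap.map_zero] at hp
    exact absurd hp (by decide)
  have hpspan : Submodule.span K3 {p} = D i := by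
    refine Submodule.eq_of_le_of_finrank_eq ((Submodule.span_singleton_le_iff_mem _ _).2 hpD) ?_
    rw [hD.decomp.finrank_eq, finrank_span_singleton hp0]
  have hxp : lin (ψ (t * z)) p = p := by rw [hψ.mul, hzp, hT.self hp]
  have h13 : D (σ i) = D i := by
    rw [← hσ i, ← hpspan, Submodule.map_span, Set.image_singleton, hxp]
  have hne := perm_seven_ne hσ7 i
  have h14 : Disjoint (D (σ i)) (D i) := hD.decomp.indep.pairwiseDisjoint hne
  rw [h13, disjoint_self] at h14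
  rw [h14] at hpD
  exact hp0 ((Submodule.mem_bot K3).1 hpD)

/-- the fixed space of `z` -/
theorem fx_eq {p : V7} (hp : Q7 p = -1) {z : L7} (hz : orderOf z = 7) (hzp : lin (ψ z) p = p) :
    fx (lin (ψ z)) = Submodule.span K3 {p} := by
  obtain ⟨i1, i2⟩ := iso_of_order hψ.inj hψ.range (pp7 card3) (by norm_num) hz
  obtain ⟨hcm, -⟩ := i1.even_case (nondeg_odd two_ne3) i2 (pp7 card3) ⟨3, rfl⟩ (by rw [finrank_seven]; omega)
  have h2 := i1.finrank_add
  rw [finrank_seven] at h2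
  have hp0 : p ≠ 0 := by
    rintro rfl
    rw [QuadraticMap.map_zero] at hp
    exact absurd hp (by decide)
  refine (Submodule.eq_of_le_of_finrank_eq ((Submodule.span_singleton_le_iff_mem _ _).2 (H951.mem_fx.2 hzp)) ?_).symm
  rw [finrank_span_singleton hp0]
  rw [hcm] at h2
  exact (Nat.add_right_cancel (k := 1) (h2 : _ + 6 = 1 + 6)).symm

/-- **the maximal subgroups through `x`** -/
theorem coat (hres : Res7 K3) {p : V7} (hp : Q7 p = -1) {t z : L7} (hT : IsT ψ p t) (hz : orderOf z = 7)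
    (hzp : lin (ψ z) p = p) (hc : t * z = z * t) {M : Subgroup L7} (hM : IsCoatom M) (ht : t ∈ M) (hzM : z ∈ M) :
    (∀ g ∈ M, g * t = t * g) ∨ ∃ φ : M →* Equiv.Perm (Fin 9), Function.Injective φ ∧
      ∀ σ ∈ alternatingGroup (Fin 9), ∃ m, φ m = σ := by
  have h2 := two_ne3
  have hfin : Finite L7 := Quotient.finite _
  have hQ := nondeg_odd (F := K3) h2
  obtain ⟨i1, i2⟩ := iso_of_order hψ.inj hψ.range (pp7 card3) (by norm_num) hz
  have hfx := fx_eq hψ hp hz hzp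
  have hmax : IsMaximalIn (omegaGL ⇑Q7) (pre (⇑Q7) M) := by
    rw [hψ.pre, ← hψ.range]
    exact isMaximalIn_map hψ.inj hM
  have hmem : ∀ z ∈ M, ψ z ∈ pre (⇑Q7) M := fun z hz => by rw [hψ.pre]; exact ⟨z, hz, rfl⟩
  obtain ⟨H, hH⟩ : ∃ H, H = pre (⇑Q7) M := ⟨_, rfl⟩
  have hmaxH : IsMaximalIn (omegaGL (quadFormOdd 3 K3)) H := by rw [hH, ← coe_quadOdd]; exact hmax
  rw [← hH] at hmem
  have htt := hT.sq hψ hp
  have ht1 : t ≠ 1 := by
    rintro rfl
    obtain ⟨y, hy, hy0⟩ := (Submodule.ne_bot_iff _).1 (cm_ne_bot i2)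
    have h3 := hT y
    have h4 : y ∈ perp Q7 (fx (lin (ψ z))) := by rw [perp_fx hQ i1.iso i1.ne0 i1.pow]; exact hy
    have h5 : polar (⇑Q7) p y = 0 := h4 p (by rw [hfx]; exact Submodule.mem_span_singleton_self p)
    rw [hψ.one, polar_comm, h5, zero_smul, sub_zero] at h3
    apply hy0
    have h6 : (2 : K3) • y = 0 := by rw [two_smul]; nth_rw 1 [h3]; exact neg_add_cancel y
    exact (smul_eq_zero.1 h6).resolve_left h2
  have hto : orderOf t = 2 := by
    have : Fact (Nat.Prime 2) := ⟨Nat.prime_two⟩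
    exact orderOf_eq_prime (by rw [pow_two, htt]) ht1
  have hxo : orderOf (t * z) = 14 := by
    have hcm : Commute t z := hc
    rw [hcm.orderOf_mul_eq_mul_orderOf_of_coprime (by rw [hto, hz]; norm_num), hto, hz]
  rcases Cfsg.Agent.S5814.result (F := K3) (by rw [card3]; decide) H hmaxH with
    ⟨W, hW0, hWs, hHW⟩ | ⟨W, hW0, he, hWn, -, hHW⟩ | ⟨-, D, hD, hHD⟩ | ⟨F₀, s, P, hs, hcard, -⟩ | h6
  · exfalso
    rw [← coe_quadOdd] at hWs
    exact ts_gen i1 hQ i2 (pp7 card3) (inv_of_mem (by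
      have := hmem z hzM
      rw [hHW] at this
      exact this.1)) hWs hW0
  · left
    have hinv : ∀ z ∈ M, Inv (lin (ψ z)) W := fun z hz => inv_of_mem (by
      have := hmem z hz
      rw [hHW] at this
      exact this.1)
    have hW := even_gen i1 hQ i2 (pp7 card3) (hinv _ hzM) hW0 he
    have hWp : perp Q7 W = Submodule.span K3 {p} := by
      rw [hW, perp_cm hQ i1.iso i1.ne0 i1.pow, hfx]
    intro g hg
    have h3 : lin (ψ g) p ∈ perp Q7 W := by
      intro w hw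
      have h4 := hψ.pol g (lin (ψ g⁻¹) w) p
      rw [hψ.inv_right] at h4
      rw [h4]
      have h5 : p ∈ perp Q7 W := by rw [hWp]; exact Submodule.mem_span_singleton_self p
      exact h5 _ (hinv _ (inv_mem hg) w hw)
    rw [hWp] at h3
    obtain ⟨c, hc'⟩ := Submodule.mem_span_singleton.1 h3
    have h5 : ∀ a : K3, a = 0 ∨ a = 1 ∨ a = -1 := by decide
    have h7 := hT.conj hψ g
    rw [← hc'] at h7
    rcases h5 c with rfl | rfl | rfl
    · exfalso
      rw [zero_smul] at hc'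
      have h8 := hψ.Q g p
      rw [← hc', QuadraticMap.map_zero, hp] at h8
      exact absurd h8 (by decide)
    · rw [one_smul] at h7
      exact mul_inv_eq_iff_eq_mul.1 (h7.unique hψ hT)
    · rw [neg_smul, one_smul] at h7
      exact mul_inv_eq_iff_eq_mul.1 (h7.unique hψ hT.neg)
  · exfalso
    have hD' := hD.decomp
    rw [← coe_quadOdd] at hD'
    have h4 := hmem (t * z) (mul_mem ht hzM)
    rw [hHD] at h4
    obtain ⟨σ, hσ⟩ := h4.1
    exact no_frame hψ hp hT hz hzp hc hD' hσ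
  · exfalso
    have h4 : 2 ≤ Nat.card F₀ := Finite.one_lt_card
    have h5 : Nat.card F₀ ^ 2 ≤ Nat.card F₀ ^ s := Nat.pow_le_pow_right (by omega) hs.two_le
    rw [← hcard, card3] at h5
    nlinarith
  · exact coat_res card3 hres (by rw [hH] at hmaxH; exact hmaxH) (by rw [hH] at h6; exact h6) ht hzM hz hc hxo

end emb

end Cfsg.Agent.H36.Spr7.Three

/-!
# 3/2-generation of `Ω₇(3)` (helper36)
-/

namespace Cfsg.Agent.H36.Spr7.Three

open Module QuadraticMap Cfsg Cfsg.Geo Cfsg.Agent.LieClassical.OrthCore Cfsg.Agent.H955 Cfsg.Agent.H954.TSing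
open Cfsg.Agent.LieClassical.OmegaReindex
open Cfsg.Agent.H884.El Cfsg.Agent.H833.RS.O73
open Cfsg.Agent.H951 (fx cm Inv)
open scoped MatrixGroups Matrix

theorem exists_even {a b i j : Fin 9} (hab : a ≠ b) (hij : i ≠ j) :
    ∃ π ∈ alternatingGroup (Fin 9), π * Equiv.swap a b * π⁻¹ = Equiv.swap i j := by
  obtain ⟨π, hπ⟩ := isConj_iff.1 (Equiv.Perm.isConj_swap hab hij)
  by_cases h : π ∈ alternatingGroup (Fin 9)
  · exact ⟨π, h, hπ⟩
  · refine ⟨π * Equiv.swap a b, ?_, ?_⟩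
    · rw [Equiv.Perm.mem_alternatingGroup, map_mul, Equiv.Perm.sign_swap hab]
      rw [Equiv.Perm.mem_alternatingGroup] at h
      rcases Int.units_eq_one_or (Equiv.Perm.sign π) with h1 | h1
      · exact absurd h1 h
      · rw [h1]; rfl
    · rw [← hπ]
      have h1 : Equiv.swap a b * Equiv.swap a b = 1 := Equiv.swap_mul_self a b
      calc π * Equiv.swap a b * Equiv.swap a b * (π * Equiv.swap a b)⁻¹
          = π * (Equiv.swap a b * Equiv.swap a b) * (Equiv.swap a b)⁻¹ * π⁻¹ := by group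
        _ = π * Equiv.swap a b * π⁻¹ := by rw [h1, mul_one, Equiv.swap_inv]

/-- the part in the symmetric group -/
theorem perm_part {L : Type} [Group L] {M : Subgroup L} {φ : M →* Equiv.Perm (Fin 9)} (hφ : Function.Injective φ)
    (hA : ∀ σ ∈ alternatingGroup (Fin 9), ∃ m, φ m = σ) {t z s : L} (htM : t ∈ M) (hzM : z ∈ M) (haM : s ∈ M)
    (hto : orderOf t = 2) (hz : orderOf z = 7) (hc : t * z = z * t) (hs1 : s ≠ 1) (hss : s * s = 1) (hne : s ≠ t)
    (h3 : ∀ n : L, (s * (n * t * n⁻¹)) ^ 2 = 1 ∨ (s * (n * t * n⁻¹)) ^ 3 = 1) :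
    (s * t = t * s → ∃ k ∈ ({1, 2, 3} : Finset ℕ), s * (z ^ k * s * (z ^ k)⁻¹) = (z ^ k * s * (z ^ k)⁻¹) * s) ∧
      (s * t ≠ t * s → s * (z ^ 3 * s * (z ^ 3)⁻¹) ≠ (z ^ 3 * s * (z ^ 3)⁻¹) * s) := by
  have hcm : Commute t z := hc
  have hz7 : z ^ 7 = 1 := by rw [← hz]; exact pow_orderOf_eq_one z
  have htt : t * t = 1 := by
    have := pow_orderOf_eq_one t
    rwa [hto, pow_two] at this
  have ht7 : t ^ 7 = t := by
    rw [show 7 = 2 * 3 + 1 by norm_num, pow_succ, pow_mul, pow_two, htt, one_pow, one_mul]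
  have hx7 : (t * z) ^ 7 = t := by rw [hcm.mul_pow, ht7, hz7, mul_one]
  have hx8 : (t * z) ^ 8 = z := by rw [pow_succ, hx7, ← mul_assoc, htt, one_mul]
  have hxM := mul_mem htM hzM
  have hxo : orderOf (φ ⟨t * z, hxM⟩) = 14 := by
    rw [orderOf_injective φ hφ, Subgroup.orderOf_mk,
      hcm.orderOf_mul_eq_mul_orderOf_of_coprime (by rw [hto, hz]; norm_num), hto, hz]
  have hc7 : φ ⟨t * z, hxM⟩ ^ 7 = φ ⟨t, htM⟩ := by
    rw [← map_pow]
    exact congrArg φ (Subtype.ext hx7)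
  have hc8 : φ ⟨t * z, hxM⟩ ^ 8 = φ ⟨z, hzM⟩ := by
    rw [← map_pow]
    exact congrArg φ (Subtype.ext hx8)
  obtain ⟨a, b, hab, hsw⟩ := swap_7 hxo
  have hcomm : ∀ (x y : L) (hx : x ∈ M) (hy : y ∈ M), φ ⟨x, hx⟩ * φ ⟨y, hy⟩ = φ ⟨y, hy⟩ * φ ⟨x, hx⟩ ↔
      x * y = y * x := by
    intro x y hx hy
    rw [← map_mul, ← map_mul, hφ.eq_iff, Subtype.ext_iff]
    rfl
  have hu1 : φ ⟨s, haM⟩ ≠ 1 := by
    intro h
    have h3 := hφ (h.trans (map_one φ).symm)
    exact hs1 (congrArg Subtype.val h3)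
  have hu2 : φ ⟨s, haM⟩ * φ ⟨s, haM⟩ = 1 := by
    rw [← map_mul, ← map_one φ]
    exact congrArg φ (Subtype.ext hss)
  have hu3 : ∀ i j, i ≠ j → (φ ⟨s, haM⟩ * Equiv.swap i j) ^ 2 = 1 ∨ (φ ⟨s, haM⟩ * Equiv.swap i j) ^ 3 = 1 := by
    intro i j hij
    obtain ⟨π, hπ, hπ2⟩ := exists_even hab hij
    obtain ⟨n, hn⟩ := hA π hπ
    have h4 : φ (n * ⟨t, htM⟩ * n⁻¹) = Equiv.swap i j := by
      rw [map_mul, map_mul, map_inv, hn, ← hc7, hsw, hπ2]
    rw [← h4, ← map_mul, ← map_pow, ← map_pow]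
    rcases h3 (n : L) with h5 | h5
    · left
      rw [← map_one φ]
      exact congrArg φ (Subtype.ext h5)
    · right
      rw [← map_one φ]
      exact congrArg φ (Subtype.ext h5)
  obtain ⟨a', b', hab', hu⟩ := exists_swap hu1 hu2 hu3
  have hne' : Equiv.swap a' b' ≠ φ ⟨t * z, hxM⟩ ^ 7 := by
    rw [← hu, hc7]
    intro h
    exact hne (congrArg Subtype.val (hφ h))
  have hP := pattern hxo hab' hne'
  rw [← hu, hc7, hc8] at hP
  obtain ⟨hP1, hP2⟩ := hP
  have hzk : ∀ k : ℕ, φ ⟨z, hzM⟩ ^ k * φ ⟨s, haM⟩ * (φ ⟨z, hzM⟩ ^ k)⁻¹ =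
      φ ⟨z ^ k * s * (z ^ k)⁻¹, mul_mem (mul_mem (pow_mem hzM k) haM) (inv_mem (pow_mem hzM k))⟩ := by
    intro k
    rw [← map_pow, ← map_inv, ← map_mul, ← map_mul]
    rfl
  refine ⟨fun h => ?_, fun h => ?_⟩
  · obtain ⟨k, hk, h4⟩ := hP1 ((hcomm _ _ haM htM).2 h)
    rw [hzk, hcomm] at h4
    exact ⟨k, hk, h4⟩
  · have h5 := hP2 fun h6 => h ((hcomm _ _ haM htM).1 h6)
    rw [hzk, Ne, hcomm] at h5
    exact h5

section emb

variable {ψ : L7 →* GL I7 K3} (hψ : Emb ψ)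

include hψ

/-- only the multiples of `p` are fixed up to sign by `z` -/
theorem fixed {p v : V7} (hp : Q7 p = -1) (hv : Q7 v = -1) (h1 : v ≠ p) (h2 : v ≠ -p) {z : L7}
    (hz : orderOf z = 7) (hzp : lin (ψ z) p = p) : lin (ψ z) v ≠ v ∧ lin (ψ z) v ≠ -v := by
  have hfx := fx_eq hψ hp hz hzp
  have hv0 : v ≠ 0 := by
    rintro rfl
    rw [QuadraticMap.map_zero] at hv
    exact absurd hv (by decide)
  constructor
  · intro h
    have h3 : v ∈ fx (lin (ψ z)) := H951.mem_fx.2 h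
    rw [hfx] at h3
    obtain ⟨c, hc⟩ := Submodule.mem_span_singleton.1 h3
    have h5 : ∀ a : K3, a = 0 ∨ a = 1 ∨ a = -1 := by decide
    rcases h5 c with rfl | rfl | rfl
    · rw [zero_smul] at hc
      exact hv0 hc.symm
    · rw [one_smul] at hc
      exact h1 hc.symm
    · rw [neg_smul, one_smul] at hc
      exact h2 hc.symm
  · intro h
    have h7 : lin (ψ (z ^ 7)) v = v := by
      have : z ^ 7 = 1 := by rw [← hz]; exact pow_orderOf_eq_one z
      rw [this, hψ.one]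
    rw [hψ.pow, hψ.pow, hψ.pow, hψ.pow, hψ.pow, hψ.pow, hψ.pow, pow_zero, hψ.one, h] at h7
    simp only [map_neg, h, neg_neg] at h7
    apply hv0
    have h6 : (2 : K3) • v = 0 := by rw [two_smul]; nth_rw 1 [← h7]; exact neg_add_cancel v
    exact (smul_eq_zero.1 h6).resolve_left two_ne3

theorem lin_pow_eq {z : L7} {v : V7} {ε : K3} {k : ℕ} (h : lin (ψ (z ^ k)) v = ε • v) (j : ℕ) :
    lin (ψ (z ^ (k * j))) v = ε ^ j • v := by
  induction j with
  | zero => rw [mul_zero, pow_zero, hψ.one, pow_zero, one_smul]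
  | succ j ih => rw [mul_add, mul_one, pow_add, hψ.mul, h, map_smul, ih, smul_smul, pow_succ']

/-- the same for the powers -/
theorem fixed_pow {p v : V7} (hp : Q7 p = -1) (hv : Q7 v = -1) (h1 : v ≠ p) (h2 : v ≠ -p) {z : L7}
    (hz : orderOf z = 7) (hzp : lin (ψ z) p = p) {k : ℕ} (hk : k ∈ ({1, 2, 3} : Finset ℕ)) :
    v ≠ lin (ψ (z ^ k)) v ∧ v ≠ -lin (ψ (z ^ k)) v := by
  have hz7 : z ^ 7 = 1 := by rw [← hz]; exact pow_orderOf_eq_one z
  obtain ⟨a, b⟩ := fixed hψ hp hv h1 h2 hz hzp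
  have key : ∀ ε : K3, (ε = 1 ∨ ε = -1) → lin (ψ (z ^ k)) v ≠ ε • v := by
    intro ε hε h
    obtain ⟨j, hj⟩ : ∃ j, z ^ (k * j) = z := by
      simp only [Finset.mem_insert, Finset.mem_singleton] at hk
      rcases hk with rfl | rfl | rfl
      · exact ⟨1, by rw [mul_one, pow_one]⟩
      · exact ⟨4, by rw [show 2 * 4 = 7 + 1 by norm_num, pow_succ, hz7, one_mul]⟩
      · exact ⟨5, by rw [show 3 * 5 = 7 * 2 + 1 by norm_num, pow_succ, pow_mul, hz7, one_pow, one_mul]⟩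
    have h3 := lin_pow_eq hψ h j
    rw [hj] at h3
    rcases hε with rfl | rfl
    · rw [one_pow, one_smul] at h3
      exact a h3
    · rcases neg_one_pow_eq_or K3 j with h4 | h4
      · rw [h4, one_smul] at h3
        exact a h3
      · rw [h4, neg_smul, one_smul] at h3
        exact b h3
  refine ⟨fun h => key 1 (Or.inl rfl) (by rw [one_smul]; exact h.symm), fun h => key (-1) (Or.inr rfl) ?_⟩
  rw [neg_smul, one_smul]
  nth_rw 2 [h]
  rw [neg_neg]

end emb

/-- **`Ω₇(3)`** -/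
theorem spr_three (hres : Res7 K3) (hsim : IsSimpleGroup L7) : H424.Spr.Spr L7 := by
  intro α hα
  have hfin : Finite L7 := Quotient.finite _
  obtain ⟨ψ, hψ⟩ := exists_Emb
  obtain ⟨p, t, hp, ht, hmv⟩ := hψ.exists_moved hsim hα
  obtain ⟨T, hTs, hTQ, hT⟩ := hψ.aut α
  have ht' := ht.map hψ hTs hTQ hT
  obtain ⟨v, hvT⟩ : ∃ v, v = T p := ⟨_, rfl⟩
  rw [← hvT] at ht'
  have hv : Q7 v = -1 := by rw [hvT, hTQ, hp]
  have h1 : v ≠ p := by
    rintro rfl
    exact hmv (ht'.unique hψ ht)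
  have h2 : v ≠ -p := by
    rintro rfl
    exact hmv (ht'.unique hψ ht.neg)
  obtain ⟨t₁, z, hT1, hz, hzp, hc, hpat⟩ := hψ.exists_elts hp hv h1 h2
  have : t₁ = t := hT1.unique hψ ht
  subst this
  have htt := ht.sq hψ hp
  have hz7 : z ^ 7 = 1 := by rw [← hz]; exact pow_orderOf_eq_one z
  have hcm : Commute t₁ z := hc
  have ht7 : t₁ ^ 7 = t₁ := by
    rw [show 7 = 2 * 3 + 1 by norm_num, pow_succ, pow_mul, pow_two, htt, one_pow, one_mul]
  have hx7 : (t₁ * z) ^ 7 = t₁ := by rw [hcm.mul_pow, ht7, hz7, mul_one]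
  have hx8 : (t₁ * z) ^ 8 = z := by
    rw [pow_succ, hx7, ← mul_assoc, htt, one_mul]
  refine ⟨t₁ * z, fun K hxK hinv => ?_⟩
  by_contra hK
  obtain ⟨M, hM, hKM⟩ := (eq_top_or_exists_le_coatom K).resolve_left hK
  have htK : t₁ ∈ K := by rw [← hx7]; exact pow_mem hxK 7
  have hzK : z ∈ K := by
    have := pow_mem hxK 8
    rwa [hx8] at this
  have hatK : α t₁ ∈ K := hinv _ htK
  rcases coat hψ hres hp ht hz hzp hc hM (hKM htK) (hKM hzK) with h | ⟨φ, hφ, hA⟩
  · -- the stabilizer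
    obtain ⟨k, hkK, hk⟩ : ∃ k ∈ K, α k = z := by
      let f : K → K := fun k => ⟨α k, hinv _ k.2⟩
      have hf : Function.Injective f := fun a b hab => Subtype.ext (α.injective (congrArg Subtype.val hab))
      obtain ⟨k, hk⟩ := (Finite.injective_iff_surjective.1 hf) ⟨z, hzK⟩
      exact ⟨k, k.2, congrArg Subtype.val hk⟩
    have h3 : z * α t₁ = α t₁ * z := by
      rw [← hk, ← map_mul, ← map_mul, h k (hKM hkK)]
    have h4 := ht'.conj hψ z
    rw [h3, mul_inv_cancel_right] at h4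
    obtain ⟨a, b⟩ := fixed hψ hp hv h1 h2 hz hzp
    rcases ht'.eq_or hv h4 with h5 | h5
    · exact a h5.symm
    · exact b (neg_eq_iff_eq_neg.1 h5.symm)
  · -- the symmetric group
    have ht1 : t₁ ≠ 1 := by
      rintro rfl
      exact hmv (map_one α)
    have hto : orderOf t₁ = 2 := by
      have : Fact (Nat.Prime 2) := ⟨Nat.prime_two⟩
      exact orderOf_eq_prime (by rw [pow_two, htt]) ht1
    have hs1 : α t₁ ≠ 1 := fun h => ht1 (α.injective (by rw [h, map_one]))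
    obtain ⟨hP1, hP2⟩ := perm_part hφ hA (hKM htK) (hKM hzK) (hKM hatK) hto hz hc hs1 (ht'.sq hψ hv) hmv
      (fun n => ht'.three hψ hv (w := lin (ψ n) p) (by rw [hψ.Q, hp]) (ht.conj hψ n))
    rcases hpat with ⟨q0, q1, q2, q3⟩ | ⟨q0, q1⟩
    · have h3 := ht'.comm_of hψ ht q0
      obtain ⟨k, hk, h4⟩ := hP1 h3
      obtain ⟨f1, f2⟩ := fixed_pow hψ hp hv h1 h2 hz hzp hk
      rcases ht'.of_comm hψ hv (w := lin (ψ (z ^ k)) v) (by rw [hψ.Q, hv]) (ht'.conj hψ (z ^ k)) h4 with h5 | h5 | h5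
      · simp only [Finset.mem_insert, Finset.mem_singleton] at hk
        rcases hk with rfl | rfl | rfl
        · exact q1 h5
        · exact q2 h5
        · exact q3 h5
      · exact f1 h5
      · exact f2 h5
    · have h3 : α t₁ * t₁ ≠ t₁ * α t₁ := by
        intro h
        rcases ht'.of_comm hψ hv hp ht h with h5 | h5 | h5
        · exact q0 h5
        · exact h1 h5
        · exact h2 h5
      apply hP2 h3
      exact ht'.comm_of hψ (ht'.conj hψ (z ^ 3)) q1

end Cfsg.Agent.H36.Spr7.Three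

/-!
# The row `Ω₇(q)` of S3938
-/

namespace Cfsg.Agent.H36.Spr7

open Cfsg Cfsg.Agent.LieClassical.OmegaReindex

/-- **S3938-OODD7**, from S5815 -/
theorem spr_of_res (hres : ∀ {F : Type} [Field F] [Fintype F], Odd (Fintype.card F) → Res7 F) {F : Type} [Field F]
    [Fintype F] (hodd : Odd (Fintype.card F)) : H424.Spr.Spr (POmega F (quadFormOdd 3 F)) := by
  by_cases h3 : Fintype.card F = 3
  · have hs : IsSimpleGroup (POmega (ZMod 3) (quadFormOdd 3 (ZMod 3))) :=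
      Cfsg.Agent.S0295.result (by rw [ZMod.card]; decide) 3 le_rfl
    have hr : Res7 (ZMod 3) := hres (by rw [ZMod.card]; decide)
    have key : IsSimpleGroup (POmega (ZMod 3) ⇑(quadOdd 3 (ZMod 3))) →
        H424.Spr.Spr (POmega (ZMod 3) ⇑(quadOdd 3 (ZMod 3))) := fun h => Three.spr_three hr h
    rw [coe_quadOdd] at key
    obtain ⟨σ⟩ : Nonempty (ZMod 3 ≃+* F) := by
      have hp : Fact (Nat.Prime 3) := ⟨Nat.prime_three⟩
      exact ⟨FiniteField.ringEquivOfCardEq (by rw [ZMod.card, h3])⟩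
    obtain ⟨e⟩ := UGT.U2.Rec.Congr.nonempty_POmegaOdd σ 3
    exact H424.Spr.Spr.congr e (key hs)
  · have hs : IsSimpleGroup (POmega F (quadFormOdd 3 F)) := Cfsg.Agent.S0295.result hodd 3 le_rfl
    have key : IsSimpleGroup (POmega F ⇑(quadOdd 3 F)) → H424.Spr.Spr (POmega F ⇑(quadOdd 3 F)) := fun h =>
      spr_big hodd h3 (hres hodd) h
    rw [coe_quadOdd] at key
    exact key hs

end Cfsg.Agent.H36.Spr7
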